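import Groth.Agent.HSLib.Basic

/-!
# Dimension and the degree of the Hilbert–Samuel polynomial
-/

set_option autoImplicit false
set_option backward.isDefEq.respectTransparency false

universe u

open Filter Polynomial

open scoped Pointwise

namespace Groth.Agent.HSLib

variable {A : Type u} [CommRing A] {M : Type u} [AddCommGroup M] [Module A M]

/-- All primes of the support of a finite module of finite length are maximal. -/
theorem isMaximal_of_mem_support [Module.Finite A M] (h : Module.length A M ≠ ⊤) {p : PrimeSpectrum A}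
    (hp : p ∈ Module.support A M) : p.asIdeal.IsMaximal := by
  obtain ⟨hN, hA⟩ := isFiniteLength_iff_isNoetherian_isArtinian.1 (Module.length_ne_top_iff.1 h)
  obtain ⟨s, g, hg⟩ := Submodule.fg_iff_exists_fin_generating_family.1 (Module.Finite.fg_top (R := A) (M := M))
  let ev : A →ₗ[A] (Fin s → M) := LinearMap.pi fun i => LinearMap.toSpanSingleton A M (g i)
  have hker : LinearMap.ker ev = Module.annihilator A M := by
    ext a
    rw [LinearMap.mem_ker, funext_iff, ← Submodule.annihilator_top, ← hg, Submodule.mem_annihilator_span]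
    simp [ev]
  haveI : IsArtinian A (Fin s → M) := isArtinian_pi
  haveI : IsArtinian A (A ⧸ Module.annihilator A M) :=
    isArtinian_of_linearEquiv ((Submodule.quotEquivOfEq _ _ hker.symm).trans ev.quotKerEquivRange).symm
  haveI : IsArtinianRing (A ⧸ Module.annihilator A M) := isArtinian_of_tower A inferInstance
  have hle := Module.mem_support_iff_of_finite.1 hp
  haveI : (p.asIdeal.map (Ideal.Quotient.mk (Module.annihilator A M))).IsPrime :=
    Ideal.map_isPrime_of_surjective Ideal.Quotient.mk_surjective (by rwa [Ideal.mk_ker])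
  have := IsArtinianRing.isMaximal_of_isPrime (p.asIdeal.map (Ideal.Quotient.mk (Module.annihilator A M)))
  have h2 := Ideal.comap_isMaximal_of_surjective (Ideal.Quotient.mk (Module.annihilator A M)) Ideal.Quotient.mk_surjective
    (K := p.asIdeal.map (Ideal.Quotient.mk (Module.annihilator A M)))
  rwa [Ideal.comap_map_of_surjective' _ Ideal.Quotient.mk_surjective, Ideal.mk_ker, sup_eq_left.2 hle] at h2

/-- A finite module all of whose support is closed points has finite length. -/
theorem length_ne_top_of_support [IsNoetherianRing A] [Module.Finite A M]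
    (h : ∀ p ∈ Module.support A M, p.asIdeal.IsMaximal) : Module.length A M ≠ ⊤ := by
  set K := Module.annihilator A M
  letI : Module (A ⧸ K) M := Module.IsTorsionBySet.module fun a x => Module.mem_annihilator.1 x.2 a
  haveI : IsScalarTower A (A ⧸ K) M := ⟨fun a b m => by
    obtain ⟨b, rfl⟩ := Ideal.Quotient.mk_surjective b
    show (Ideal.Quotient.mk K (a • b)) • m = a • b • m
    rw [smul_eq_mul]
    exact mul_smul a b m⟩
  haveI : Module.Finite (A ⧸ K) M := Module.Finite.of_restrictScalars_finite A _ _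
  haveI : Ring.KrullDimLE 0 (A ⧸ K) := Ring.krullDimLE_zero_iff.2 fun P hP => by
    have hm : (P.comap (Ideal.Quotient.mk K)).IsMaximal :=
      h ⟨_, hP.comap _⟩ (Module.mem_support_iff_of_finite.2 fun a ha => by
        show Ideal.Quotient.mk K a ∈ P
        rw [Ideal.Quotient.eq_zero_iff_mem.2 ha]
        exact P.zero_mem)
    have h2 := (Ideal.map_eq_top_or_isMaximal_of_surjective (Ideal.Quotient.mk K) Ideal.Quotient.mk_surjective hm)
    rw [Ideal.map_comap_of_surjective _ Ideal.Quotient.mk_surjective] at h2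
    exact h2.resolve_left hP.ne_top
  haveI : IsArtinianRing (A ⧸ K) := isArtinianRing_iff_isNoetherianRing_krullDimLE_zero.2 ⟨inferInstance, inferInstance⟩
  rw [Module.length_eq_of_surjective (R := A ⧸ K) Ideal.Quotient.mk_surjective]
  exact Module.length_ne_top

theorem isMaximal_of_mem_support_of_le [Module.Finite A M] {I : Ideal A}
    (hfl : Module.length A (M ⧸ (I • (⊤ : Submodule A M))) ≠ ⊤) {p : PrimeSpectrum A} (hp : p ∈ Module.support A M)
    (hI : I ≤ p.asIdeal) : p.asIdeal.IsMaximal :=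
  isMaximal_of_mem_support hfl (by rw [Module.support_quotient]; exact ⟨hp, hI⟩)

theorem support_quot_pow [Module.Finite A M] {I : Ideal A} {n : ℕ} {p : PrimeSpectrum A}
    (hp : p ∈ Module.support A (M ⧸ (I ^ n • (⊤ : Submodule A M)))) : p ∈ Module.support A M ∧ I ≤ p.asIdeal := by
  rw [Module.support_quotient] at hp
  exact ⟨hp.1, fun a ha => p.isPrime.mem_of_pow_mem n (hp.2 (Ideal.pow_mem_pow ha n))⟩

theorem length_pow_ne_top [IsNoetherianRing A] [Module.Finite A M] {I : Ideal A}
    (hfl : ∀ p ∈ Module.support A M, I ≤ p.asIdeal → p.asIdeal.IsMaximal) (n : ℕ) :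
    Module.length A (M ⧸ (I ^ n • (⊤ : Submodule A M))) ≠ ⊤ :=
  length_ne_top_of_support fun p hp => hfl p (support_quot_pow hp).1 (support_quot_pow hp).2

/-- The annihilator of a quotient of `M` by a multiple of an ideal contains powers of `J`. -/
theorem exists_pow_smul_le [IsNoetherianRing A] [Module.Finite A M] {I J : Ideal A}
    (hfl : ∀ p ∈ Module.support A M, I ≤ p.asIdeal → p.asIdeal.IsMaximal) (hJ : J ≤ Ring.jacobson A) :
    ∃ k, 0 < k ∧ J ^ k • (⊤ : Submodule A M) ≤ I • ⊤ := by
  obtain ⟨k, hk⟩ := Ideal.exists_pow_le_of_le_radical_of_fg (I := J)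
    (J := Module.annihilator A (M ⧸ (I • (⊤ : Submodule A M)))) (by
      rw [Ideal.radical_eq_sInf]
      refine le_sInf fun P hP => hJ.trans ?_
      have hsupp : (⟨P, hP.2⟩ : PrimeSpectrum A) ∈ Module.support A (M ⧸ (I • (⊤ : Submodule A M))) :=
        Module.mem_support_iff_of_finite.2 hP.1
      rw [Module.support_quotient] at hsupp
      haveI : P.IsMaximal := hfl _ hsupp.1 hsupp.2
      exact Ring.jacobson_le_of_isMaximal P)
    (IsNoetherian.noetherian J)
  refine ⟨k + 1, k.succ_pos, Submodule.smul_le.2 fun a ha z _ => ?_⟩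
  have h1 := Module.mem_annihilator.1 (hk (Ideal.pow_le_pow_right (Nat.le_succ k) ha)) (Submodule.Quotient.mk z)
  rw [← Submodule.Quotient.mk_smul] at h1
  exact (Submodule.Quotient.mk_eq_zero _).1 h1

theorem pow_mul_smul_le {I J : Ideal A} {k : ℕ} (h : J ^ k • (⊤ : Submodule A M) ≤ I • ⊤) (n : ℕ) :
    J ^ (k * n) • (⊤ : Submodule A M) ≤ I ^ n • ⊤ := by
  induction n with
  | zero => simp
  | succ n ih =>
    calc J ^ (k * (n + 1)) • (⊤ : Submodule A M) = J ^ (k * n) • J ^ k • ⊤ := by
          rw [← Submodule.mul_smul, ← pow_add, Nat.mul_succ]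
      _ ≤ J ^ (k * n) • I • ⊤ := Submodule.smul_mono le_rfl h
      _ = I • J ^ (k * n) • ⊤ := by rw [← Submodule.mul_smul, ← Submodule.mul_smul, mul_comm]
      _ ≤ I • I ^ n • ⊤ := Submodule.smul_mono le_rfl ih
      _ = I ^ (n + 1) • ⊤ := by rw [← Submodule.mul_smul, pow_succ']

theorem le_supportDim_of_chain (l : LTSeries (PrimeSpectrum A)) (h : l.head ∈ Module.support A M) :
    (l.length : WithBot ℕ∞) ≤ Module.supportDim A M :=
  Order.LTSeries.length_le_krullDim
    (LTSeries.mk l.length (fun i => (⟨l i, Module.mem_support_mono (LTSeries.head_le l i) h⟩ : Module.support A M))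
      fun a b hab => l.strictMono hab)

theorem supportDim_le_iff {d : ℕ} :
    Module.supportDim A M ≤ (d : WithBot ℕ∞) ↔
      ∀ l : LTSeries (PrimeSpectrum A), l.head ∈ Module.support A M → l.length ≤ d := by
  refine ⟨fun h l hl => Nat.cast_le.1 ((le_supportDim_of_chain l hl).trans h : (l.length : WithBot ℕ∞) ≤ d),
    fun h => iSup_le fun l => Nat.cast_le.2 ?_⟩
  exact h (LTSeries.map l Subtype.val fun _ _ h => h) l.head.2

theorem supportDim_eq_zero_of_isMaximal [Nontrivial M] (h : ∀ p ∈ Module.support A M, p.asIdeal.IsMaximal) :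
    Module.supportDim A M ≤ ((0 : ℕ) : WithBot ℕ∞) := by
  refine supportDim_le_iff.2 fun l hl => ?_
  by_contra hne
  have hlt : l ⟨0, by omega⟩ < l ⟨1, by omega⟩ := l.strictMono (by simp [Fin.lt_def])
  exact (l ⟨1, by omega⟩).isPrime.ne_top ((h _ hl).out.2 _ hlt)

/-- `dim M ≤ s(M)`. -/
theorem supportDim_le_of_params [IsNoetherianRing A] : ∀ (s : ℕ) (M : Type u) [AddCommGroup M] [Module A M]
    [Module.Finite A M] (x : Fin s → A), (∀ i, x i ∈ Ring.jacobson A) →
    (∀ p ∈ Module.support A M, Ideal.span (Set.range x) ≤ p.asIdeal → p.asIdeal.IsMaximal) →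
    Module.supportDim A M ≤ (s : WithBot ℕ∞) := by
  intro s
  induction s with
  | zero =>
    intro M _ _ _ x _ h
    rcases subsingleton_or_nontrivial M with hM | hM
    · rw [Module.supportDim_eq_bot_of_subsingleton]
      exact bot_le
    · exact supportDim_eq_zero_of_isMaximal fun p hp => h p hp (by simp)
  | succ s ih =>
    intro M _ _ _ x hx h
    have hjac : Ring.jacobson A ≤ (Module.annihilator A M).jacobson := by
      rw [← Ideal.jacobson_bot]
      exact Ideal.jacobson_mono bot_le
    refine (Module.supportDim_le_supportDim_quotSMulTop_succ_of_mem_jacobson (hjac (hx 0))).trans ?_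
    push_cast
    gcongr
    refine ih (QuotSMulTop (x 0) M) (fun i => x i.succ) (fun i => hx _) fun p hp hle => ?_
    rw [Module.support_quotSMulTop] at hp
    refine h p hp.1 (Ideal.span_le.2 ?_)
    rintro _ ⟨i, rfl⟩
    exact Fin.cases (hp.2 rfl) (fun j => hle (Ideal.subset_span ⟨j, rfl⟩)) i

theorem isMaximal_of_jacobson_le [Finite (MaximalSpectrum A)] (p : Ideal A) [p.IsPrime] (h : Ring.jacobson A ≤ p) :
    p.IsMaximal := by
  classical
  cases nonempty_fintype (MaximalSpectrum A)
  have h' : Finset.univ.inf (fun m : MaximalSpectrum A => m.asIdeal) ≤ p := by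
    refine le_trans ?_ h
    rw [← Ideal.jacobson_bot]
    exact le_sInf fun J hJ => Finset.inf_le (f := fun m : MaximalSpectrum A => m.asIdeal) (Finset.mem_univ ⟨J, hJ.2⟩)
  obtain ⟨m, -, hm⟩ := (Ideal.IsPrime.inf_le' ‹_›).1 h'
  exact (m.isMaximal.eq_of_le (Ideal.IsPrime.ne_top ‹_›) hm) ▸ m.isMaximal

/-- `s(M) ≤ dim M`. -/
theorem exists_params [IsNoetherianRing A] [Finite (MaximalSpectrum A)] : ∀ (d : ℕ) (M : Type u) [AddCommGroup M]
    [Module A M] [Module.Finite A M], Module.supportDim A M ≤ (d : WithBot ℕ∞) →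
    ∃ x : Fin d → A, (∀ i, x i ∈ Ring.jacobson A) ∧
      ∀ p ∈ Module.support A M, Ideal.span (Set.range x) ≤ p.asIdeal → p.asIdeal.IsMaximal := by
  intro d
  induction d with
  | zero =>
    intro M _ _ _ h
    refine ⟨Fin.elim0, fun i => i.elim0, fun p hp _ => ?_⟩
    by_contra hne
    obtain ⟨m, hm, hpm⟩ := Ideal.exists_le_maximal p.asIdeal p.isPrime.ne_top
    have hlt : p < ⟨m, hm.isPrime⟩ :=
      lt_of_le_of_ne hpm fun he => hne ((congrArg PrimeSpectrum.asIdeal he : p.asIdeal = m) ▸ hm)
    exact absurd (supportDim_le_iff.1 h ((RelSeries.singleton _ p).snoc ⟨m, hm.isPrime⟩ hlt) (by simpa using hp)) (by simp)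
  | succ d ih =>
    intro M _ _ _ h
    classical
    obtain ⟨y, hy, hy'⟩ : ∃ y ∈ Ring.jacobson A,
        ∀ q ∈ (Module.annihilator A M).minimalPrimes, y ∈ q → q.IsMaximal := by
      have hfinset := (Ideal.finite_minimalPrimes_of_isNoetherianRing A (Module.annihilator A M)).subset
        (Set.sep_subset _ fun q => ¬ q.IsMaximal)
      by_contra hcon
      push Not at hcon
      have hsub : ((Ring.jacobson A : Ideal A) : Set A) ⊆ ⋃ q ∈ (hfinset.toFinset : Set (Ideal A)), ((q : Ideal A) : Set A) :=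
        fun y hy => by
          obtain ⟨q, hq1, hq2, hq3⟩ := hcon y hy
          exact Set.mem_biUnion (hfinset.mem_toFinset.2 ⟨hq1, hq3⟩) hq2
      obtain ⟨q, hq, hle⟩ := (Ideal.subset_union_prime (f := fun q : Ideal A => q) ⊥ ⊥ fun q hq _ _ =>
        (hfinset.mem_toFinset.1 hq).1.isPrime).1 hsub
      haveI := (hfinset.mem_toFinset.1 hq).1.isPrime
      exact (hfinset.mem_toFinset.1 hq).2 (isMaximal_of_jacobson_le q hle)
    obtain ⟨x, hx, hx'⟩ := ih (QuotSMulTop y M) (supportDim_le_iff.2 fun l hl => by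
      rw [Module.support_quotSMulTop] at hl
      obtain ⟨r, hr, hrle⟩ := Ideal.exists_minimalPrimes_le (Module.mem_support_iff_of_finite.1 hl.1)
      have hr' : (⟨r, hr.isPrime⟩ : PrimeSpectrum A) ∈ Module.support A M := Module.mem_support_iff_of_finite.2 hr.1.2
      rcases eq_or_lt_of_le hrle with heq | hlt
      · by_contra hne
        push Not at hne
        have hmax : l.head.asIdeal.IsMaximal := heq ▸ hy' r hr (heq ▸ hl.2 rfl)
        have hlt' : l ⟨0, by omega⟩ < l ⟨1, by omega⟩ := l.strictMono (by simp [Fin.lt_def])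
        exact (l ⟨1, by omega⟩).isPrime.ne_top (hmax.out.2 _ hlt')
      · have := supportDim_le_iff.1 h (l.cons ⟨r, hr.isPrime⟩ hlt) (by simpa using hr')
        simpa using this)
    refine ⟨Fin.cons y x, Fin.cases hy hx, fun p hp hle => hx' p ?_ ((Ideal.span_mono ?_).trans hle)⟩
    · rw [Module.support_quotSMulTop]
      exact ⟨hp, Set.singleton_subset_iff.2 (hle (Ideal.subset_span ⟨0, rfl⟩))⟩
    · rintro _ ⟨i, rfl⟩
      exact ⟨i.succ, rfl⟩

/-- The polynomial of a quotient by a regular element has smaller degree. -/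
theorem natDegree_quot_lt [IsNoetherianRing A] [Module.Finite A M] {I : Ideal A} {x : A}
    (hfl : ∀ p ∈ Module.support A M, I ≤ p.asIdeal → p.asIdeal.IsMaximal) (hx : Function.Injective fun m : M => x • m)
    {P Q : ℚ[X]} (hP : IsHSPoly I M P) (hPpos : 0 < P.natDegree) (hQ : IsHSPoly I (QuotSMulTop x M) Q) :
    Q.natDegree < P.natDegree := by
  obtain ⟨k, hk⟩ := Ideal.exists_pow_inf_eq_pow_smul I (LinearMap.range (LinearMap.lsmul A M x))
  refine natDegree_lt_of_le_diff k hPpos hQ.nonneg ?_
  filter_upwards [eventually_ge_atTop k, hP, (tendsto_sub_atTop_nat k).eventually hP, hQ] with n hn h1 h2 h3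
  set W := x • (⊤ : Submodule A M)
  have hfin := length_pow_ne_top hfl
  have key := colen_smul_sup x ⊤ (I ^ n • (⊤ : Submodule A M)) ((I ^ n • (⊤ : Submodule A M)).comap (LinearMap.lsmul A M x))
    (fun _ _ => Iff.rfl) le_top (hfin n)
    (length_ne_top_mono (Submodule.smul_le.2 fun a ha z _ => by
      rw [Submodule.mem_comap, LinearMap.lsmul_apply, smul_comm]
      exact Submodule.smul_mem_smul ha Submodule.mem_top) (hfin n))
  have htop : colen (⊤ : Submodule A M) = 0 := by
    rw [colen, Module.length_eq_zero, ENat.toNat_zero]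
  have hle : colen ((I ^ (n - k) : Ideal A) • (⊤ : Submodule A M)) ≤
      colen ((I ^ n • (⊤ : Submodule A M)).comap (LinearMap.lsmul A M x)) := by
    refine colen_anti (fun z hz => ?_) (length_ne_top_mono (Submodule.smul_le.2 fun a ha z _ => by
      rw [Submodule.mem_comap, LinearMap.lsmul_apply, smul_comm]
      exact Submodule.smul_mem_smul ha Submodule.mem_top) (hfin n))
    have h' : x • z ∈ I ^ n • (⊤ : Submodule A M) ⊓ LinearMap.range (LinearMap.lsmul A M x) := ⟨hz, z, rfl⟩
    rw [hk n hn] at h'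
    have h'' : x • z ∈ (I ^ (n - k) • (⊤ : Submodule A M)).map (LinearMap.lsmul A M x) := by
      rw [Submodule.map_smul'', Submodule.map_top]
      exact Submodule.smul_mono le_rfl inf_le_right h'
    obtain ⟨w, hw, hwz⟩ := h''
    rwa [← hx hwz]
  have hq : colen (I ^ n • (⊤ : Submodule A (QuotSMulTop x M))) =
      colen (I ^ n • (⊤ : Submodule A M) ⊔ (⊤ : Submodule A M).map (LinearMap.lsmul A M x)) := by
    have hW : W = (⊤ : Submodule A M).map (LinearMap.lsmul A M x) := rfl
    rw [colen, colen, sup_comm, ← hW]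
    congr 1
    rw [← LinearEquiv.length_eq (Submodule.quotientQuotientEquivQuotientSup W (I ^ n • (⊤ : Submodule A M))),
      Submodule.map_smul'', Submodule.map_top, Submodule.range_mkQ]
  rw [← h1, ← h3, ← Nat.cast_sub hn, ← h2, le_sub_iff_add_le, ← Nat.cast_add, Nat.cast_le]
  omega

theorem natDegree_le_of_le_comp' {I J : Ideal A} {N : Type u} [AddCommGroup N] [Module A N] {P Q : ℚ[X]}
    (hP : IsHSPoly I M P) (hQ : IsHSPoly J N Q) (a b : ℕ) (ha : 0 < a)
    (h : ∀ᶠ n : ℕ in atTop, colen (I ^ n • (⊤ : Submodule A M)) ≤ colen (J ^ (a * n + b) • (⊤ : Submodule A N))) :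
    P.natDegree ≤ Q.natDegree := by
  refine natDegree_le_of_le_comp a b ha hP.nonneg ?_
  have ht : Tendsto (fun n : ℕ => a * n + b) atTop atTop := by
    refine tendsto_atTop_mono (fun n => ?_) tendsto_id
    calc n = 1 * n := (one_mul n).symm
      _ ≤ a * n := by gcongr; omega
      _ ≤ a * n + b := Nat.le_add_right _ _
  filter_upwards [hP, ht.eventually hQ, h] with n h1 h2 h3
  rw [← h1, ← h2]
  exact_mod_cast h3

/-- Bounds for the lengths attached to a submodule. -/
theorem exists_shift_le_of_injective [IsNoetherianRing A] [Module.Finite A M] {N : Type u} [AddCommGroup N]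
    [Module A N] (f : N →ₗ[A] M) (hf : Function.Injective f) {I : Ideal A}
    (hfl : ∀ p ∈ Module.support A M, I ≤ p.asIdeal → p.asIdeal.IsMaximal) :
    ∃ k, ∀ n, colen (I ^ n • (⊤ : Submodule A N)) ≤ colen (I ^ (n + k) • (⊤ : Submodule A M)) := by
  obtain ⟨k, hk⟩ := Ideal.exists_pow_inf_eq_pow_smul I (LinearMap.range f)
  refine ⟨k, fun n => ?_⟩
  set X := (I ^ (n + k) • (⊤ : Submodule A M)).comap f
  let g := Submodule.mapQ X (I ^ (n + k) • (⊤ : Submodule A M)) f le_rfl
  have hg : Function.Injective g := by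
    rw [← LinearMap.ker_eq_bot]
    simp only [g, Submodule.mapQ, Submodule.ker_liftQ, LinearMap.ker_comp, Submodule.ker_mkQ]
    exact Submodule.mkQ_map_self X
  have h1 : Module.length A (N ⧸ X) ≤ Module.length A (M ⧸ (I ^ (n + k) • (⊤ : Submodule A M))) :=
    Module.length_le_of_injective g hg
  have hfinX := ne_top_of_le_ne_top (length_pow_ne_top hfl (n + k)) h1
  refine (colen_anti (fun z hz => ?_) hfinX).trans (ENat.toNat_le_toNat h1 (length_pow_ne_top hfl _))
  have h' : f z ∈ I ^ (n + k) • (⊤ : Submodule A M) ⊓ LinearMap.range f := ⟨hz, z, rfl⟩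
  rw [hk (n + k) (by omega), Nat.add_sub_cancel] at h'
  have h'' : f z ∈ (I ^ n • (⊤ : Submodule A N)).map f := by
    rw [Submodule.map_smul'', Submodule.map_top]
    exact Submodule.smul_mono le_rfl inf_le_right h'
  obtain ⟨w, hw, hwz⟩ := h''
  rwa [← hf hwz]

/-- `dim M ≤ δ(M)`. -/
theorem supportDim_le_natDegree [IsNoetherianRing A] {I : Ideal A} (hI : I ≤ Ring.jacobson A) :
    ∀ (M : Type u) [AddCommGroup M] [Module A M] [Module.Finite A M],
      (∀ p ∈ Module.support A M, I ≤ p.asIdeal → p.asIdeal.IsMaximal) →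
      ∀ P : ℚ[X], IsHSPoly I M P → Module.supportDim A M ≤ (P.natDegree : WithBot ℕ∞) := by
  suffices H : ∀ (d : ℕ) (M : Type u) [AddCommGroup M] [Module A M] [Module.Finite A M],
      (∀ p ∈ Module.support A M, I ≤ p.asIdeal → p.asIdeal.IsMaximal) →
      ∀ P : ℚ[X], IsHSPoly I M P → P.natDegree = d → Module.supportDim A M ≤ (d : WithBot ℕ∞) from
    fun M _ _ _ hfl P hP => H _ M hfl P hP rfl
  intro d
  induction d using Nat.strong_induction_on with
  | _ d IH => ?_
  intro M _ _ _ hfl P hP hd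
  refine supportDim_le_iff.2 fun l hl => ?_
  rcases Nat.eq_zero_or_pos l.length with h0 | hlpos
  · omega
  haveI : NeZero l.length := ⟨hlpos.ne'⟩
  obtain ⟨r, hr, hrle⟩ := Ideal.exists_minimalPrimes_le (Module.mem_support_iff_of_finite.1 hl)
  haveI := hr.isPrime
  obtain ⟨-, ι, hι⟩ := (isAssociatedPrime_iff_exists_injective_linearMap r M).1
    (AssociatedPrimes.mem_iff.1 (Module.associatedPrimes.minimalPrimes_annihilator_subset_associatedPrimes A M hr))
  have hsuppN : Module.support A (A ⧸ r) ⊆ Module.support A M := Module.support_subset_of_injective ι hι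
  have hflN : ∀ p ∈ Module.support A (A ⧸ r), I ≤ p.asIdeal → p.asIdeal.IsMaximal := fun p hp => hfl p (hsuppN hp)
  obtain ⟨PN, hPN⟩ := exists_isHSPoly I (length_pow_ne_top hflN)
  obtain ⟨k, hk⟩ := exists_shift_le_of_injective ι hι hfl
  have hdegN : PN.natDegree ≤ d := hd ▸ natDegree_le_of_le_comp' hPN hP 1 k one_pos
    (Eventually.of_forall fun n => by rw [one_mul]; exact hk n)
  set p₁ := (l.tail hlpos.ne').head with hp₁
  have hlt : r < p₁.asIdeal := by
    refine lt_of_le_of_lt hrle ?_
    rw [hp₁, RelSeries.head_tail]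
    exact l.strictMono (Fin.pos_iff_ne_zero.2 (by simp [Fin.ext_iff, Fin.val_one', Nat.mod_eq_of_lt (Nat.succ_lt_succ hlpos)]))
  have hNpos : 0 < PN.natDegree := by
    by_contra hcon
    push Not at hcon
    obtain ⟨c, hc⟩ : ∃ c, PN = C c := ⟨_, eq_C_of_natDegree_le_zero hcon⟩
    obtain ⟨n, hn1, hn2⟩ := (hPN.and ((tendsto_add_atTop_nat 1).eventually hPN)).exists
    have heq : colen (I ^ n • (⊤ : Submodule A (A ⧸ r))) = colen (I ^ (n + 1) • (⊤ : Submodule A (A ⧸ r))) := by
      rw [hc, eval_C] at hn1 hn2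
      exact_mod_cast hn1.trans hn2.symm
    have hstab := eq_of_colen_le (pow_smul_top_anti I n.le_succ) (length_pow_ne_top hflN (n + 1)) heq.ge
    have hbot : I ^ n • (⊤ : Submodule A (A ⧸ r)) = ⊥ := by
      refine Submodule.eq_bot_of_le_smul_of_le_jacobson_bot I _ (IsNoetherian.noetherian _) ?_ (hI.trans (le_of_eq Ideal.jacobson_bot.symm))
      rw [← Submodule.mul_smul, ← pow_succ']
      exact hstab
    have hIr : I ≤ r := fun a ha => by
      refine hr.isPrime.mem_of_pow_mem n ?_
      have hmem := Submodule.smul_mem_smul (Ideal.pow_mem_pow ha n) (Submodule.mem_top (x := (1 : A ⧸ r)))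
      rw [hbot, Submodule.mem_bot, Algebra.smul_def, mul_one] at hmem
      exact Ideal.Quotient.eq_zero_iff_mem.1 hmem
    have hmax := hfl ⟨r, hr.isPrime⟩ (Module.mem_support_iff_of_finite.2 hr.1.2) hIr
    exact p₁.isPrime.ne_top (hmax.out.2 _ hlt)
  obtain ⟨y, hy, hyr⟩ := SetLike.exists_of_lt hlt
  have hinj : Function.Injective fun z : A ⧸ r => y • z := fun a b hab => by
    have hne : Ideal.Quotient.mk r y ≠ 0 := fun h => hyr (Ideal.Quotient.eq_zero_iff_mem.1 h)
    simp only [Algebra.smul_def] at hab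
    exact mul_left_cancel₀ hne hab
  have hflQ : ∀ p ∈ Module.support A (QuotSMulTop y (A ⧸ r)), I ≤ p.asIdeal → p.asIdeal.IsMaximal := fun p hp => by
    rw [Module.support_quotSMulTop] at hp
    exact hflN p hp.1
  obtain ⟨Q, hQ⟩ := exists_isHSPoly I (length_pow_ne_top hflQ)
  have hQd := natDegree_quot_lt hflN hinj hPN hNpos hQ
  have hih := IH Q.natDegree (by omega) (QuotSMulTop y (A ⧸ r)) hflQ Q hQ rfl
  have hhead : p₁ ∈ Module.support A (QuotSMulTop y (A ⧸ r)) := by
    rw [Module.support_quotSMulTop, Module.support_eq_zeroLocus, Ideal.annihilator_quotient]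
    exact ⟨hlt.le, Set.singleton_subset_iff.2 hy⟩
  have := supportDim_le_iff.1 hih (l.tail hlpos.ne') hhead
  simp at this
  omega

/-- `δ(M) ≤ dim M`. -/
theorem natDegree_le_supportDim [IsNoetherianRing A] [Finite (MaximalSpectrum A)] {I : Ideal A}
    (hI : I ≤ Ring.jacobson A) [Module.Finite A M] (hfl : ∀ p ∈ Module.support A M, I ≤ p.asIdeal → p.asIdeal.IsMaximal)
    {P : ℚ[X]} (hP : IsHSPoly I M P) {d : ℕ} (hd : Module.supportDim A M ≤ (d : WithBot ℕ∞)) : P.natDegree ≤ d := by
  obtain ⟨x, hx, hx'⟩ := exists_params d M hd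
  obtain ⟨Q, hQd, hQ⟩ := exists_isHSPoly_span x (length_pow_ne_top hx')
  obtain ⟨k, hk0, hk⟩ := exists_pow_smul_le (J := Ideal.span (Set.range x)) hfl
    (Ideal.span_le.2 (Set.range_subset_iff.2 hx))
  refine (natDegree_le_of_le_comp' hP hQ k 0 hk0 (Eventually.of_forall fun n => ?_)).trans hQd
  rw [add_zero]
  exact colen_anti (pow_mul_smul_le hk n) (length_pow_ne_top hx' _)

end Groth.Agent.HSLib
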