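import Groth.Agent.HSLib.Dim
import Groth.Agent.SopLenLib.Count

/-!
# Multiplicities
-/

set_option autoImplicit false
set_option backward.isDefEq.respectTransparency false

universe u

open Filter Polynomial

open scoped Topology

namespace Groth.Agent.HSLib

variable {A : Type u} [CommRing A] [IsNoetherianRing A] {I : Ideal A}

/-- The normalised Hilbert–Samuel function. -/
noncomputable def eSeq (I : Ideal A) (d : ℕ) (N : Type u) [AddCommGroup N] [Module A N] (t : ℕ) : ℝ :=
  (d.factorial : ℝ) * (colen (I ^ t • (⊤ : Submodule A N)) : ℝ) / (t : ℝ) ^ d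

theorem tendsto_shift_div_pow (d k : ℕ) : Tendsto (fun t : ℕ => ((t - k : ℕ) : ℝ) ^ d / (t : ℝ) ^ d) atTop (𝓝 1) := by
  have h1 : Tendsto (fun t : ℕ => (1 - (k : ℝ) / t) ^ d) atTop (𝓝 1) := by
    have h0 : Tendsto (fun t : ℕ => 1 - (k : ℝ) / t) atTop (𝓝 (1 - 0)) :=
      tendsto_const_nhds.sub (tendsto_const_div_atTop_nhds_zero_nat (k : ℝ))
    simpa using h0.pow d
  refine h1.congr' ((eventually_ge_atTop (k + 1)).mono fun t ht => ?_)
  show _ = ((t - k : ℕ) : ℝ) ^ d / (t : ℝ) ^ d
  rw [← div_pow, Nat.cast_sub (by omega), sub_div, div_self (Nat.cast_ne_zero.2 (by omega))]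

theorem tendsto_shift {f : ℕ → ℝ} {e : ℝ} {d : ℕ} (k : ℕ)
    (h : Tendsto (fun t : ℕ => f t / (t : ℝ) ^ d) atTop (𝓝 e)) :
    Tendsto (fun t : ℕ => f (t - k) / (t : ℝ) ^ d) atTop (𝓝 e) := by
  have := (h.comp (tendsto_sub_atTop_nat k)).mul (tendsto_shift_div_pow d k)
  rw [mul_one] at this
  refine this.congr' ((eventually_ge_atTop (k + 1)).mono fun t ht => ?_)
  simp only [Function.comp_apply]
  rw [div_mul_div_cancel₀]
  exact pow_ne_zero _ (Nat.cast_ne_zero.2 (by omega))

/-- Additivity of multiplicities in short exact sequences. -/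
theorem tendsto_eSeq_of_exact {N₁ N₂ N₃ : Type u} [AddCommGroup N₁] [Module A N₁] [AddCommGroup N₂] [Module A N₂]
    [AddCommGroup N₃] [Module A N₃] [Module.Finite A N₂] (f : N₁ →ₗ[A] N₂) (g : N₂ →ₗ[A] N₃) (hf : Function.Injective f)
    (hg : Function.Surjective g) (hfg : Function.Exact f g)
    (hfl : ∀ p ∈ Module.support A N₂, I ≤ p.asIdeal → p.asIdeal.IsMaximal) (d : ℕ) {e₁ e₃ : ℝ}
    (h₁ : Tendsto (eSeq I d N₁) atTop (𝓝 e₁)) (h₃ : Tendsto (eSeq I d N₃) atTop (𝓝 e₃)) :
    Tendsto (eSeq I d N₂) atTop (𝓝 (e₁ + e₃)) := by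
  haveI : Module.Finite A N₁ := Module.Finite.of_injective f hf
  haveI : Module.Finite A N₃ := Module.Finite.of_surjective g hg
  have hfl₁ : ∀ p ∈ Module.support A N₁, I ≤ p.asIdeal → p.asIdeal.IsMaximal := fun p hp =>
    hfl p (Module.support_subset_of_injective f hf hp)
  obtain ⟨k, hk⟩ := Ideal.exists_pow_inf_eq_pow_smul I (LinearMap.range f)
  let X : ℕ → Submodule A N₁ := fun t => (I ^ t • (⊤ : Submodule A N₂)).comap f
  have hsplit : ∀ t, colen (I ^ t • (⊤ : Submodule A N₂)) = colen (X t) + colen (I ^ t • (⊤ : Submodule A N₃)) := fun t => by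
    have hg' : I ^ t • (⊤ : Submodule A N₂) ≤ (I ^ t • (⊤ : Submodule A N₃)).comap g := by
      rw [← Submodule.map_le_iff_le_comap, Submodule.map_smul'', Submodule.map_top, LinearMap.range_eq_top.2 hg]
    have hinj : Function.Injective (Submodule.mapQ (X t) (I ^ t • (⊤ : Submodule A N₂)) f le_rfl) := by
      rw [← LinearMap.ker_eq_bot]
      simp only [Submodule.mapQ, Submodule.ker_liftQ, LinearMap.ker_comp, Submodule.ker_mkQ]
      exact Submodule.mkQ_map_self (X t)
    have hsurj : Function.Surjective (Submodule.mapQ _ _ g hg') := fun y => by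
      obtain ⟨y, rfl⟩ := Submodule.Quotient.mk_surjective _ y
      obtain ⟨z, rfl⟩ := hg y
      exact ⟨Submodule.Quotient.mk z, rfl⟩
    have hex : Function.Exact (Submodule.mapQ (X t) (I ^ t • (⊤ : Submodule A N₂)) f le_rfl) (Submodule.mapQ _ _ g hg') := by
      intro y
      obtain ⟨y, rfl⟩ := Submodule.Quotient.mk_surjective _ y
      rw [Submodule.mapQ_apply, Submodule.Quotient.mk_eq_zero]
      constructor
      · intro hy
        have hy' : g y ∈ (I ^ t • (⊤ : Submodule A N₂)).map g := by
          rwa [Submodule.map_smul'', Submodule.map_top, LinearMap.range_eq_top.2 hg]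
        obtain ⟨w, hw, hwy⟩ := hy'
        obtain ⟨u, hu⟩ := (hfg (y - w)).1 (by rw [map_sub, hwy, sub_self])
        refine ⟨Submodule.Quotient.mk u, ?_⟩
        rw [Submodule.mapQ_apply, Submodule.Quotient.eq, hu]
        simpa using (I ^ t • (⊤ : Submodule A N₂)).neg_mem hw
      · rintro ⟨u, hu⟩
        obtain ⟨u, rfl⟩ := Submodule.Quotient.mk_surjective _ u
        rw [Submodule.mapQ_apply, Submodule.Quotient.eq] at hu
        have := hg' hu
        rw [Submodule.mem_comap, map_sub, hfg.apply_apply_eq_zero, zero_sub] at this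
        exact neg_mem_iff.1 this
    have h := Module.length_eq_add_of_exact _ _ hinj hsurj hex
    have hne := length_pow_ne_top hfl t
    rw [h] at hne
    rw [colen, colen, colen, h, ENat.toNat_add (fun hh => hne (by simp [hh])) (fun hh => hne (by simp [hh]))]
  have hfinX : ∀ t, Module.length A (N₁ ⧸ X t) ≠ ⊤ := fun t => length_ne_top_mono (show I ^ t • (⊤ : Submodule A N₁) ≤ X t by
    show _ ≤ (I ^ t • (⊤ : Submodule A N₂)).comap f
    rw [← Submodule.map_le_iff_le_comap, Submodule.map_smul'']
    exact Submodule.smul_mono le_rfl le_top) (length_pow_ne_top hfl₁ t)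
  have hX1 : ∀ t, colen (X t) ≤ colen (I ^ t • (⊤ : Submodule A N₁)) := fun t => colen_anti (by
    show _ ≤ (I ^ t • (⊤ : Submodule A N₂)).comap f
    rw [← Submodule.map_le_iff_le_comap, Submodule.map_smul'']
    exact Submodule.smul_mono le_rfl le_top) (length_pow_ne_top hfl₁ t)
  have hX2 : ∀ t, k ≤ t → colen ((I ^ (t - k) : Ideal A) • (⊤ : Submodule A N₁)) ≤ colen (X t) := fun t ht => by
    refine colen_anti (fun z hz => ?_) (hfinX t)
    have h' : f z ∈ I ^ t • (⊤ : Submodule A N₂) ⊓ LinearMap.range f := ⟨hz, z, rfl⟩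
    rw [hk t ht] at h'
    have h'' : f z ∈ (I ^ (t - k) • (⊤ : Submodule A N₁)).map f := by
      rw [Submodule.map_smul'', Submodule.map_top]
      exact Submodule.smul_mono le_rfl inf_le_right h'
    obtain ⟨w, hw, hwz⟩ := h''
    rwa [← hf hwz]
  have hlim : Tendsto (fun t : ℕ => (d.factorial : ℝ) * (colen (X t) : ℝ) / (t : ℝ) ^ d) atTop (𝓝 e₁) := by
    refine tendsto_of_tendsto_of_tendsto_of_le_of_le'
      (tendsto_shift (f := fun t => (d.factorial : ℝ) * (colen (I ^ t • (⊤ : Submodule A N₁)) : ℝ)) k h₁) h₁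
      ((eventually_ge_atTop k).mono fun t ht => ?_) (Eventually.of_forall fun t => ?_)
    · exact div_le_div_of_nonneg_right (mul_le_mul_of_nonneg_left (Nat.cast_le.2 (hX2 t ht)) (by positivity)) (by positivity)
    · exact div_le_div_of_nonneg_right (mul_le_mul_of_nonneg_left (Nat.cast_le.2 (hX1 t)) (by positivity)) (by positivity)
  refine (hlim.add h₃).congr fun t => ?_
  simp only [eSeq, hsplit, Nat.cast_add]
  ring

theorem tendsto_eSeq_of_poly {N : Type u} [AddCommGroup N] [Module A N] {P : ℚ[X]} (hP : IsHSPoly I N P) {d : ℕ}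
    (hd : P.natDegree ≤ d) : Tendsto (eSeq I d N) atTop (𝓝 ((d.factorial : ℝ) * ((P.coeff d : ℚ) : ℝ))) := by
  refine ((tendsto_eval_div_pow P hd).const_mul (d.factorial : ℝ)).congr' (hP.mono fun n hn => ?_)
  rw [eSeq, ← hn, Rat.cast_natCast, mul_div_assoc]

/-- The multiplicity in degree above the dimension vanishes. -/
theorem tendsto_eSeq_zero [Finite (MaximalSpectrum A)] (hI : I ≤ Ring.jacobson A) {N : Type u} [AddCommGroup N]
    [Module A N] [Module.Finite A N] (hfl : ∀ p ∈ Module.support A N, I ≤ p.asIdeal → p.asIdeal.IsMaximal) {d : ℕ}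
    (hd : Module.supportDim A N < (d : WithBot ℕ∞)) : Tendsto (eSeq I d N) atTop (𝓝 0) := by
  rcases subsingleton_or_nontrivial N with hN | hN
  · have h0 : ∀ t, eSeq I d N t = 0 := fun t => by simp [eSeq, colen, Module.length_eq_zero]
    exact tendsto_const_nhds.congr fun t => (h0 t).symm
  obtain ⟨P, hP⟩ := exists_isHSPoly I (length_pow_ne_top hfl)
  obtain ⟨m, hm⟩ : ∃ m : ℕ, d = m + 1 := by
    refine ⟨d - 1, ?_⟩
    rcases d with - | d
    · exfalso
      have h1 := Module.supportDim_ne_bot_of_nontrivial A N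
      revert h1 hd
      generalize Module.supportDim A N = s
      intro hd h1
      cases s using WithBot.recBotCoe with
      | bot => exact h1 rfl
      | coe a => simp at hd
    · omega
  subst hm
  have hle : Module.supportDim A N ≤ (m : WithBot ℕ∞) := by
    revert hd
    generalize Module.supportDim A N = s
    intro hd
    cases s using WithBot.recBotCoe with
    | bot => exact bot_le
    | coe a =>
      have : a < ((m + 1 : ℕ) : ℕ∞) := WithBot.coe_lt_coe.1 hd
      refine WithBot.coe_le_coe.2 (?_ : a ≤ (m : ℕ∞))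
      exact Order.le_of_lt_succ (by simpa [ENat.succ_def] using this)
  have hdeg := natDegree_le_supportDim hI hfl hP hle
  have := tendsto_eSeq_of_poly hP (d := m + 1) (by omega)
  rwa [coeff_eq_zero_of_natDegree_lt (by omega), Rat.cast_zero, mul_zero] at this

/-- The length of a localization at a minimal prime of the support is finite. -/
theorem length_localized_ne_top {N : Type u} [AddCommGroup N] [Module A N] [Module.Finite A N] (q : PrimeSpectrum A)
    (hq : ∀ p ∈ Module.support A N, p.asIdeal ≤ q.asIdeal → p = q) :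
    Module.length (Localization.AtPrime q.asIdeal) (LocalizedModule q.asIdeal.primeCompl N) ≠ ⊤ := by
  haveI : IsNoetherianRing (Localization.AtPrime q.asIdeal) :=
    IsLocalization.isNoetherianRing q.asIdeal.primeCompl _ inferInstance
  haveI : Module.Finite (Localization.AtPrime q.asIdeal) (LocalizedModule q.asIdeal.primeCompl N) :=
    Module.Finite.of_isLocalizedModule q.asIdeal.primeCompl (LocalizedModule.mkLinearMap q.asIdeal.primeCompl N)
  refine length_ne_top_of_support fun Q hQ => ?_
  have hann := Module.mem_support_iff_of_finite.1 hQ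
  have hle : Q.asIdeal.comap (algebraMap A (Localization.AtPrime q.asIdeal)) ≤ q.asIdeal := fun a ha => by
    by_contra haq
    exact Q.isPrime.ne_top (Ideal.eq_top_of_isUnit_mem _ ha
      (IsLocalization.map_units (Localization.AtPrime q.asIdeal) (⟨a, haq⟩ : q.asIdeal.primeCompl)))
  have hmem : (⟨_, Q.isPrime.comap (algebraMap A (Localization.AtPrime q.asIdeal))⟩ : PrimeSpectrum A) ∈
      Module.support A N := Module.mem_support_iff_of_finite.2 fun a ha => hann (Module.mem_annihilator.2 fun z => by
    induction z using LocalizedModule.induction_on with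
    | h x s =>
      rw [algebraMap_smul, LocalizedModule.smul'_mk, Module.mem_annihilator.1 ha, LocalizedModule.zero_mk])
  have h := congrArg PrimeSpectrum.asIdeal (hq _ hmem hle)
  have hQm : Q.asIdeal = IsLocalRing.maximalIdeal _ := by
    have h1 := IsLocalization.map_comap q.asIdeal.primeCompl (Localization.AtPrime q.asIdeal) Q.asIdeal
    dsimp only at h
    rw [show Ideal.under A Q.asIdeal = q.asIdeal from h, Localization.AtPrime.map_eq_maximalIdeal] at h1
    exact h1.symm
  rw [hQm]
  exact IsLocalRing.maximalIdeal.isMaximal _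

/-- The length at a prime of the quotient by that prime is one. -/
theorem length_localized_self (P : PrimeSpectrum A) :
    Module.length (Localization.AtPrime P.asIdeal) (LocalizedModule P.asIdeal.primeCompl (A ⧸ P.asIdeal)) = 1 := by
  refine le_antisymm (SopLenLib.length_residue_le_one P) (Order.one_le_iff_pos.2 ?_)
  rw [Module.length_pos_iff]
  exact Module.mem_support_iff_of_finite.2 (le_of_eq Ideal.annihilator_quotient)

/-- The associativity formula. -/
theorem tendsto_eSeq_sum [Finite (MaximalSpectrum A)] (hI : I ≤ Ring.jacobson A) {M : Type u} [AddCommGroup M]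
    [Module A M] [Module.Finite A M] (hfl : ∀ p ∈ Module.support A M, I ≤ p.asIdeal → p.asIdeal.IsMaximal) {d : ℕ}
    (S : Finset (PrimeSpectrum A)) (hS : ∀ q, q ∈ S ↔ q ∈ Module.support A M ∧ ringKrullDim (A ⧸ q.asIdeal) = d)
    (hd : Module.supportDim A M ≤ d) (e : PrimeSpectrum A → ℝ)
    (he : ∀ q ∈ S, Tendsto (eSeq I d (A ⧸ q.asIdeal)) atTop (𝓝 (e q))) :
    Tendsto (eSeq I d M) atTop (𝓝 (∑ q ∈ S,
      ((Module.length (Localization.AtPrime q.asIdeal) (LocalizedModule q.asIdeal.primeCompl M)).toNat : ℝ) * e q)) := by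
  have hmin : ∀ q ∈ S, ∀ p ∈ Module.support A M, p.asIdeal ≤ q.asIdeal → p = q := fun q hq p hp hle => by
    by_contra hne
    have hlt : p < q := lt_of_le_of_ne hle hne
    obtain ⟨-, hq2⟩ := (hS q).1 hq
    have hbound : ((d + 1 : ℕ) : WithBot ℕ∞) ≤ Module.supportDim A M := by
      rw [← Module.supportDim_quotient_eq_ringKrullDim] at hq2
      obtain ⟨l, hl⟩ : ∃ l : LTSeries (Module.support A (A ⧸ q.asIdeal)), d ≤ l.length := by
        haveI : Nonempty (Module.support A (A ⧸ q.asIdeal)) :=
          ⟨⟨q, Module.mem_support_iff_of_finite.2 (le_of_eq Ideal.annihilator_quotient)⟩⟩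
        have h := (Order.le_krullDim_iff (α := Module.support A (A ⧸ q.asIdeal)) (n := d)).1 hq2.ge
        obtain ⟨l, hl⟩ := h
        exact ⟨l, hl.ge⟩
      have hq' : q ≤ l.head.1 := by
        have := Module.mem_support_iff_of_finite.1 l.head.2
        rwa [Ideal.annihilator_quotient] at this
      have hl' := le_supportDim_of_chain (M := M)
        ((LTSeries.map l Subtype.val fun _ _ h => h).cons p (show p < (LTSeries.map l Subtype.val fun _ _ h => h).head from
          lt_of_lt_of_le hlt hq')) (by simpa using hp)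
      refine le_trans ?_ hl'
      simp only [RelSeries.cons_length, LTSeries.map_length]
      exact Nat.cast_le.2 (by omega)
    exact absurd (hbound.trans hd) (by rw [Nat.cast_le]; omega)
  have hlocfin : ∀ (N : Type u) [AddCommGroup N] [Module A N] [Module.Finite A N],
      Module.support A N ⊆ Module.support A M → ∀ q ∈ S,
      Module.length (Localization.AtPrime q.asIdeal) (LocalizedModule q.asIdeal.primeCompl N) ≠ ⊤ :=
    fun N _ _ _ hsub q hq => length_localized_ne_top q fun p hp => hmin q hq p (hsub hp)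
  suffices H : ∀ (N : Type u) [AddCommGroup N] [Module A N] [hN : Module.Finite A N],
      Module.support A N ⊆ Module.support A M → Tendsto (eSeq I d N) atTop (𝓝 (∑ q ∈ S,
        ((Module.length (Localization.AtPrime q.asIdeal) (LocalizedModule q.asIdeal.primeCompl N)).toNat : ℝ) * e q)) from
    H M subset_rfl
  intro N _ _ hN
  induction hN using IsNoetherianRing.induction_on_isQuotientEquivQuotientPrime A with
  | subsingleton N =>
    intro hsub
    have h1 : ∀ t, eSeq I d N t = 0 := fun t => by simp [eSeq, colen, Module.length_eq_zero]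
    refine (tendsto_const_nhds.congr fun t => (h1 t).symm).trans (le_of_eq ?_)
    congr 1
    refine (Finset.sum_eq_zero fun q _ => ?_).symm
    haveI : Subsingleton (LocalizedModule q.asIdeal.primeCompl N) :=
      LocalizedModule.subsingleton_iff.2 fun x => ⟨1, one_mem _, Subsingleton.elim _ _⟩
    simp [Module.length_eq_zero]
  | quotient N p φ =>
    intro hsub
    have heq : ∀ t, eSeq I d (A ⧸ p.asIdeal) t = eSeq I d N t := fun t => by
      simp only [eSeq, colen]
      congr 4
      refine (LinearEquiv.length_eq (Submodule.Quotient.equiv _ _ φ ?_)).symm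
      rw [Submodule.map_smul'', Submodule.map_top, LinearMap.range_eq_top.2 φ.surjective]
    have hsupp : Module.support A N = Module.support A (A ⧸ p.asIdeal) := φ.support_eq
    have hz : ∀ q : PrimeSpectrum A, q ∈ S → q ≠ p →
        Module.length (Localization.AtPrime q.asIdeal) (LocalizedModule q.asIdeal.primeCompl N) = 0 := fun q hq hne => by
      rw [Module.length_eq_zero_iff, ← Module.notMem_support_iff]
      intro hqN
      have hp : p ∈ Module.support A M := hsub (hsupp ▸ Module.mem_support_iff_of_finite.2 (le_of_eq Ideal.annihilator_quotient))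
      have hle := Module.mem_support_iff_of_finite.1 (hsupp ▸ hqN : q ∈ Module.support A (A ⧸ p.asIdeal))
      rw [Ideal.annihilator_quotient] at hle
      exact hne (hmin q hq p hp hle).symm
    refine Tendsto.congr heq ?_
    by_cases hpS : p ∈ S
    · rw [Finset.sum_eq_single p (fun q hq hne => by rw [hz q hq hne]; simp) (fun h => absurd hpS h)]
      rw [(IsLocalizedModule.mapEquiv p.asIdeal.primeCompl (LocalizedModule.mkLinearMap p.asIdeal.primeCompl N)
        (LocalizedModule.mkLinearMap p.asIdeal.primeCompl (A ⧸ p.asIdeal)) (Localization.AtPrime p.asIdeal) φ).length_eq,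
        length_localized_self]
      simpa using he p hpS
    · rw [Finset.sum_eq_zero fun q hq => by rw [hz q hq fun h => hpS (h ▸ hq)]; simp]
      have hp : p ∈ Module.support A M := hsub (hsupp ▸ Module.mem_support_iff_of_finite.2 (le_of_eq Ideal.annihilator_quotient))
      refine tendsto_eSeq_zero hI (fun q hq => hfl q (hsub (hsupp ▸ hq))) (lt_of_le_of_ne ?_ ?_)
      · rw [← Module.supportDim_eq_of_equiv φ]
        exact le_trans (Order.krullDim_le_of_strictMono (fun a => (⟨a.1, hsub a.2⟩ : Module.support A M)) fun _ _ h => h) hd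
      · rw [Module.supportDim_quotient_eq_ringKrullDim]
        exact fun h => hpS ((hS p).2 ⟨hp, h⟩)
  | exact N₁ N₂ N₃ f g hf hg hfg h₁ h₃ =>
    intro hsub
    have hs1 : Module.support A N₁ ⊆ Module.support A M := (Module.support_subset_of_injective f hf).trans hsub
    have hs3 : Module.support A N₃ ⊆ Module.support A M := (Module.support_subset_of_surjective g hg).trans hsub
    have h := tendsto_eSeq_of_exact f g hf hg hfg (fun p hp => hfl p (hsub hp)) d (h₁ hs1) (h₃ hs3)
    refine h.trans (le_of_eq ?_)
    congr 1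
    rw [← Finset.sum_add_distrib]
    refine Finset.sum_congr rfl fun q hq => ?_
    rw [Module.length_eq_add_of_exact (LocalizedModule.map q.asIdeal.primeCompl f)
      (LocalizedModule.map q.asIdeal.primeCompl g) (LocalizedModule.map_injective _ f hf)
      (LocalizedModule.map_surjective _ g hg) (LocalizedModule.map_exact _ f g hfg),
      ENat.toNat_add (hlocfin N₁ hs1 q hq) (hlocfin N₃ hs3 q hq), Nat.cast_add, add_mul]

end Groth.Agent.HSLib
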