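import Groth.Agent.HSLib.Graded
import Groth.Agent.HSLib.Mult
import Groth.Agent.CMGraded.GradedDim
import Groth.Agent.LenLib.Basic
import Groth.Prelude.Def_CohB1

/-!
# Hilbert polynomials of homogeneous ideals and the local ring at the vertex
-/

set_option autoImplicit false
set_option backward.isDefEq.respectTransparency false

universe u

open Filter MvPolynomial

namespace Groth.Agent.HSLib

variable {k : Type u} [Field k] {n : ℕ}

/-- The Hilbert function of `R ⧸ I`. -/
noncomputable def hilb (I : Ideal (MvPolynomial (Fin (n + 1)) k)) (j : ℕ) : ℚ :=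
  (Module.finrank k ↥(CohB1.polyGrading n k j) : ℚ) -
    Module.finrank k ↥(Submodule.restrictScalars k I ⊓ CohB1.polyGrading n k j)

theorem comp_mem {I : Ideal (MvPolynomial (Fin (n + 1)) k)} (hI : I.IsHomogeneous (CohB1.polyGrading n k))
    {f : MvPolynomial (Fin (n + 1)) k} (hf : f ∈ I) (j : ℕ) : homogeneousComponent j f ∈ I := by
  have h := hI j hf
  have e : ((DirectSum.decompose (CohB1.polyGrading n k) f j : CohB1.polyGrading n k j) : MvPolynomial (Fin (n + 1)) k) =
      homogeneousComponent j f := MvPolynomial.decomposition.decompose'_apply f j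
  rwa [e] at h

theorem finite_polyGrading (j : ℕ) : Module.Finite k ↥(CohB1.polyGrading n k j) := by
  refine Module.Finite.of_injective (Submodule.inclusion (fun f hf => ?_) :
    ↥(CohB1.polyGrading n k j) →ₗ[k] ↥(MvPolynomial.restrictTotalDegree (Fin (n + 1)) k j)) (Submodule.inclusion_injective _)
  rw [mem_restrictTotalDegree]
  exact MvPolynomial.IsHomogeneous.totalDegree_le hf

theorem mem_pow_of_mem_grading {f : MvPolynomial (Fin (n + 1)) k} {j : ℕ} (hf : f ∈ CohB1.polyGrading n k j) :
    f ∈ idealOfVars (Fin (n + 1)) k ^ j := by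
  refine (mem_pow_idealOfVars_iff' j f).2 fun e he => ?_
  by_contra hne
  have := hf hne
  rw [Pi.one_def, ← Finsupp.degree_eq_weight_one] at this
  omega

theorem sub_comp_mem_pow {f : MvPolynomial (Fin (n + 1)) k} {j : ℕ} (hf : f ∈ idealOfVars (Fin (n + 1)) k ^ j) :
    f - homogeneousComponent j f ∈ idealOfVars (Fin (n + 1)) k ^ (j + 1) := by
  refine (mem_pow_idealOfVars_iff' _ _).2 fun e he => ?_
  rw [coeff_sub, coeff_homogeneousComponent]
  split_ifs with h
  · rw [sub_self]
  · rw [sub_zero]
    exact (mem_pow_idealOfVars_iff' j f).1 hf e (by omega)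

/-- The colengths of powers of the vertex ideal are the partial sums of the Hilbert function. -/
theorem length_quot_sup_pow {I : Ideal (MvPolynomial (Fin (n + 1)) k)} (hI : I.IsHomogeneous (CohB1.polyGrading n k)) :
    ∀ t : ℕ, ∃ l : ℕ, Module.length (MvPolynomial (Fin (n + 1)) k)
      (MvPolynomial (Fin (n + 1)) k ⧸ (I ⊔ idealOfVars (Fin (n + 1)) k ^ t)) = l ∧
      (l : ℚ) = ∑ j ∈ Finset.range t, hilb I j := by
  intro t
  induction t with
  | zero =>
    refine ⟨0, ?_, by simp⟩
    haveI : Subsingleton (MvPolynomial (Fin (n + 1)) k ⧸ (I ⊔ idealOfVars (Fin (n + 1)) k ^ 0)) :=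
      Submodule.Quotient.subsingleton_iff.2 (by simp)
    rw [Module.length_eq_zero, Nat.cast_zero]
  | succ t ih =>
    obtain ⟨l, hl, hl'⟩ := ih
    set X := I ⊔ idealOfVars (Fin (n + 1)) k ^ (t + 1) with hX
    set Y := I ⊔ idealOfVars (Fin (n + 1)) k ^ t with hY
    haveI := finite_polyGrading (k := k) (n := n) t
    let φ : ↥(CohB1.polyGrading n k t) →ₗ[k] ↥(Submodule.map X.mkQ Y) :=
      { toFun := fun x => ⟨Submodule.Quotient.mk x.1, x.1, Ideal.mem_sup_right (mem_pow_of_mem_grading x.2), rfl⟩
        map_add' := fun x y => rfl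
        map_smul' := fun a x => rfl }
    have hsurj : Function.Surjective φ := by
      rintro ⟨_, z, hz, rfl⟩
      obtain ⟨a, ha, b, hb, rfl⟩ := Submodule.mem_sup.1 hz
      refine ⟨⟨homogeneousComponent t b, homogeneousComponent_mem _ _⟩, Subtype.ext ((Submodule.Quotient.eq _).2 ?_)⟩
      have h2 : homogeneousComponent t b - (a + b) = -a + -(b - homogeneousComponent t b) := by ring
      show homogeneousComponent t b - (a + b) ∈ X
      rw [h2]
      exact Submodule.add_mem_sup (I.neg_mem ha) (Submodule.neg_mem _ (sub_comp_mem_pow hb))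
    have hker : (LinearMap.ker φ).map (CohB1.polyGrading n k t).subtype =
        Submodule.restrictScalars k I ⊓ CohB1.polyGrading n k t := by
      ext x
      constructor
      · rintro ⟨y, hy, rfl⟩
        have hy' : (y : MvPolynomial (Fin (n + 1)) k) ∈ X := (Submodule.Quotient.mk_eq_zero _).1 (congrArg Subtype.val hy)
        refine ⟨?_, y.2⟩
        obtain ⟨a, ha, b, hb, hab⟩ := Submodule.mem_sup.1 hy'
        have hc : homogeneousComponent t b = 0 := homogeneousComponent_eq_zero' _ _ fun e he hdeg => by
          rw [mem_support_iff] at he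
          exact he ((mem_pow_idealOfVars_iff' _ b).1 hb e (by omega))
        have h3 := congrArg (homogeneousComponent t) hab
        rw [map_add, hc, add_zero, homogeneousComponent_of_mem y.2, if_pos rfl] at h3
        show (y : MvPolynomial (Fin (n + 1)) k) ∈ I
        rw [← h3]
        exact comp_mem hI ha t
      · rintro ⟨hxI, hx⟩
        refine ⟨⟨x, hx⟩, ?_, rfl⟩
        exact Subtype.ext ((Submodule.Quotient.mk_eq_zero _).2 (Ideal.mem_sup_left hxI))
    haveI : Module.Finite k ↥(Submodule.map X.mkQ Y) := Module.Finite.of_surjective φ hsurj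
    have hlen : Module.length (MvPolynomial (Fin (n + 1)) k) ↥(Submodule.map X.mkQ Y) =
        (Module.finrank k ↥(Submodule.map X.mkQ Y) : ℕ∞) := by
      rw [length_eq_of_var_smul _ (fun j x => ?_), Module.length_eq_finrank]
      obtain ⟨_, z, hz, rfl⟩ := x
      refine Subtype.ext ((Submodule.Quotient.mk_eq_zero _).2 ?_)
      obtain ⟨a, ha, b, hb, rfl⟩ := Submodule.mem_sup.1 hz
      show MvPolynomial.X j * (a + b) ∈ X
      rw [mul_add]
      refine Submodule.add_mem_sup (I.mul_mem_left _ ha) ?_
      rw [pow_succ']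
      exact Ideal.mul_mem_mul (Ideal.subset_span ⟨j, rfl⟩) hb
    have hle : X ≤ Y := sup_le_sup_left (Ideal.pow_le_pow_right t.le_succ) I
    refine ⟨Module.finrank k ↥(Submodule.map X.mkQ Y) + l, ?_, ?_⟩
    · rw [length_quot_split hle, hlen, hl]
      push_cast
      rfl
    · rw [Finset.sum_range_succ, ← hl', hilb, ← hker]
      have h1 := LinearMap.finrank_range_add_finrank_ker φ
      rw [LinearMap.range_eq_top.2 hsurj, finrank_top] at h1
      have h2 : Module.finrank k ↥((LinearMap.ker φ).map (CohB1.polyGrading n k t).subtype) = Module.finrank k ↥(LinearMap.ker φ) :=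
        ((CohB1.polyGrading n k t).equivSubtypeMap (LinearMap.ker φ)).finrank_eq.symm
      rw [h2, ← h1]
      push_cast
      ring

/-- Finite length modules supported at a maximal ideal may be computed after localizing. -/
theorem locLength_eq_length {R : Type u} [CommRing R] [IsNoetherianRing R] (m : Ideal R) [m.IsMaximal]
    (Q : Type u) [AddCommGroup Q] [Module R Q] [hQ : Module.Finite R Q]
    (h : ∀ p ∈ Module.support R Q, p.asIdeal = m) : LenLib.locLength m Q = Module.length R Q := by
  revert h
  induction hQ using IsNoetherianRing.induction_on_isQuotientEquivQuotientPrime R with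
  | subsingleton N =>
    intro _
    rw [LenLib.locLength_of_subsingleton, Module.length_eq_zero]
  | quotient N p e =>
    intro h
    have hp : p.asIdeal = m := h p (e.support_eq ▸ Module.mem_support_iff_of_finite.2 (le_of_eq Ideal.annihilator_quotient))
    haveI : IsSimpleModule R (R ⧸ p.asIdeal) := isSimpleModule_iff_isCoatom.2 (hp ▸ Ideal.IsMaximal.out)
    rw [LenLib.locLength_congr m e, e.length_eq, Module.length_eq_one]
    subst hp
    exact LenLib.locLength_quot_self _
  | exact N1 N2 N3 f g hf hg hfg h1 h3 =>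
    intro h
    rw [LenLib.locLength_exact m f g hf hg hfg, Module.length_eq_add_of_exact f g hf hg hfg,
      h1 fun p hp => h p (Module.support_subset_of_injective f hf hp),
      h3 fun p hp => h p (Module.support_subset_of_surjective g hg hp)]

/-- Colengths of powers of a maximal ideal are unchanged by localizing at it. -/
theorem colen_localized {R : Type u} [CommRing R] [IsNoetherianRing R] (m : Ideal R) [m.IsMaximal]
    (M : Type u) [AddCommGroup M] [Module R M] [Module.Finite R M] (t : ℕ) :
    colen ((IsLocalRing.maximalIdeal (Localization.AtPrime m)) ^ t •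
      (⊤ : Submodule (Localization.AtPrime m) (LocalizedModule m.primeCompl M))) =
    colen (m ^ t • (⊤ : Submodule R M)) := by
  rw [colen, colen]
  congr 1
  have h1 : (m ^ t • (⊤ : Submodule R M)).localized' (Localization.AtPrime m) m.primeCompl
      (LocalizedModule.mkLinearMap m.primeCompl M) = (IsLocalRing.maximalIdeal (Localization.AtPrime m)) ^ t • ⊤ := by
    rw [Submodule.localized'_smul, Submodule.localized'_top, Ideal.localized'_eq_map, Ideal.map_pow,
      Localization.AtPrime.map_eq_maximalIdeal]
  rw [← h1, ← locLength_eq_length m (M ⧸ (m ^ t • (⊤ : Submodule R M))) fun p hp => by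
    rw [Module.support_quotient] at hp
    exact (Ideal.IsMaximal.eq_of_le ‹_› p.isPrime.ne_top fun a ha =>
      p.isPrime.mem_of_pow_mem t (hp.2 (Ideal.pow_mem_pow ha t))).symm]
  exact (((IsLocalizedModule.linearEquiv m.primeCompl
    ((m ^ t • (⊤ : Submodule R M)).toLocalizedQuotient' (Localization.AtPrime m) m.primeCompl
      (LocalizedModule.mkLinearMap m.primeCompl M))
    (LocalizedModule.mkLinearMap m.primeCompl _))).extendScalarsOfIsLocalization m.primeCompl
      (Localization.AtPrime m)).length_eq

/-- The localization of a cyclic module at a prime, as a quotient of the local ring. -/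
theorem nonempty_localized_quot_equiv {R : Type u} [CommRing R] (m : Ideal R) [m.IsPrime] (p : Ideal R) :
    Nonempty (LocalizedModule m.primeCompl (R ⧸ p) ≃ₗ[Localization.AtPrime m]
      (Localization.AtPrime m ⧸ p.map (algebraMap R (Localization.AtPrime m)))) :=
  ⟨((IsLocalizedModule.linearEquiv m.primeCompl (LocalizedModule.mkLinearMap m.primeCompl (R ⧸ p))
      (Submodule.toLocalizedQuotient' (Localization.AtPrime m) m.primeCompl
        (Algebra.linearMap R (Localization.AtPrime m)) p)).extendScalarsOfIsLocalization m.primeCompl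
      (Localization.AtPrime m)).trans (Submodule.quotEquivOfEq _ _ (Ideal.localized'_eq_map _ _ p))⟩

/-- The dimension at a prime bounds the length of chains below it. -/
theorem exists_chain_localized {R : Type u} [CommRing R] (m : Ideal R) [m.IsPrime] (M : Type u) [AddCommGroup M]
    [Module R M] [Module.Finite R M] (l : LTSeries (PrimeSpectrum R)) (hhead : l.head ∈ Module.support R M)
    (hlast : l.last.asIdeal ≤ m) :
    (l.length : WithBot ℕ∞) ≤ Module.supportDim (Localization.AtPrime m) (LocalizedModule m.primeCompl M) := by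
  let e := IsLocalization.AtPrime.primeSpectrumOrderIso (Localization.AtPrime m) m
  let l' : LTSeries (PrimeSpectrum (Localization.AtPrime m)) :=
    LTSeries.mk l.length (fun i => e.symm ⟨l i, Set.mem_Iic.2 ((PrimeSpectrum.asIdeal_le_asIdeal _ _).2 (l.monotone (Fin.le_last i)) |>.trans hlast)⟩)
      (fun i j hij => e.symm.strictMono (l.strictMono hij))
  refine le_trans (le_of_eq rfl) (le_supportDim_of_chain l' ?_)
  haveI : Module.Finite (Localization.AtPrime m) (LocalizedModule m.primeCompl M) :=
    Module.Finite.of_isLocalizedModule m.primeCompl (LocalizedModule.mkLinearMap m.primeCompl M)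
  rw [Module.mem_support_iff_of_finite]
  intro a ha
  obtain ⟨⟨r, s⟩, hrs⟩ := IsLocalization.surj m.primeCompl a
  have h0 : (e l'.head).1 = l.head := by
    show (e (e.symm _)).1 = _
    rw [OrderIso.apply_symm_apply]
    rfl
  have hann : ∃ c ∈ m.primeCompl, c * r ∈ Module.annihilator R M := by
    obtain ⟨g, hg⟩ := Module.Finite.fg_top (R := R) (M := M)
    have hz : ∀ x : M, ∃ c ∈ m.primeCompl, c • r • x = 0 := fun x => by
      have h := Module.mem_annihilator.1 ha (LocalizedModule.mkLinearMap m.primeCompl M x)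
      have h' : (r : R) • LocalizedModule.mkLinearMap m.primeCompl M x = 0 := by
        rw [← algebraMap_smul (Localization.AtPrime m) r, ← hrs, mul_comm, mul_smul, h, smul_zero]
      rw [← map_smul, IsLocalizedModule.eq_zero_iff m.primeCompl] at h'
      obtain ⟨c, hc⟩ := h'
      exact ⟨c, c.2, hc⟩
    choose c hc hc' using hz
    refine ⟨∏ x ∈ g, c x, prod_mem fun x _ => hc x, ?_⟩
    rw [← Submodule.annihilator_top, ← hg, Submodule.mem_annihilator_span]
    intro x
    obtain ⟨d, hd⟩ := Finset.dvd_prod_of_mem c x.2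
    rw [mul_smul, hd, mul_comm, mul_smul, hc', smul_zero]
  obtain ⟨c, hc, hcr⟩ := hann
  have hr : r ∈ l.head.asIdeal := by
    refine (l.head.isPrime.mem_or_mem (Module.mem_support_iff_of_finite.1 hhead hcr)).resolve_left fun hcl => hc ?_
    exact hlast ((PrimeSpectrum.asIdeal_le_asIdeal _ _).2 (l.head_le (Fin.last _)) hcl)
  have hmem : algebraMap R (Localization.AtPrime m) r ∈ l'.head.asIdeal := by
    have : r ∈ (e l'.head).1.asIdeal := by rw [h0]; exact hr
    exact this
  rw [← hrs] at hmem
  exact (l'.head.isPrime.mem_or_mem hmem).resolve_right fun hs =>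
    l'.head.isPrime.ne_top (Ideal.eq_top_of_isUnit_mem _ hs (IsLocalization.map_units _ s))

theorem supportDim_localized_le {R : Type u} [CommRing R] (m : Ideal R) [m.IsPrime] (M : Type u) [AddCommGroup M]
    [Module R M] [Module.Finite R M] :
    Module.supportDim (Localization.AtPrime m) (LocalizedModule m.primeCompl M) ≤ Module.supportDim R M := by
  haveI : Module.Finite (Localization.AtPrime m) (LocalizedModule m.primeCompl M) :=
    Module.Finite.of_isLocalizedModule m.primeCompl (LocalizedModule.mkLinearMap m.primeCompl M)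
  have hmem : ∀ Q : Module.support (Localization.AtPrime m) (LocalizedModule m.primeCompl M),
      PrimeSpectrum.comap (algebraMap R (Localization.AtPrime m)) Q.1 ∈ Module.support R M := fun Q => by
    refine Module.mem_support_iff_of_finite.2 fun a ha => Module.mem_support_iff_of_finite.1 Q.2
      (Module.mem_annihilator.2 fun z => ?_)
    induction z using LocalizedModule.induction_on with
    | h x s => rw [algebraMap_smul, LocalizedModule.smul'_mk, Module.mem_annihilator.1 ha, LocalizedModule.zero_mk]
  refine Order.krullDim_le_of_strictMono (fun Q => (⟨_, hmem Q⟩ : Module.support R M)) fun a b hab => ?_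
  exact lt_of_le_of_ne (Ideal.comap_mono (le_of_lt (show a.1 < b.1 from hab))) fun heq =>
    (ne_of_lt (show a.1 < b.1 from hab)) (PrimeSpectrum.localization_comap_injective _ m.primeCompl
      (congrArg Subtype.val heq))

variable {I : Ideal (MvPolynomial (Fin (n + 1)) k)}

theorem irrelevant_eq :
    (HomogeneousIdeal.irrelevant (CohB1.polyGrading n k)).toIdeal = idealOfVars (Fin (n + 1)) k := by
  refine Ideal.ext fun f => ?_
  have e : ((DirectSum.decompose (CohB1.polyGrading n k) f 0 : CohB1.polyGrading n k 0) : MvPolynomial (Fin (n + 1)) k) =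
      homogeneousComponent 0 f := MvPolynomial.decomposition.decompose'_apply f 0
  have h1 : f ∈ idealOfVars (Fin (n + 1)) k ↔ f ∈ idealOfVars (Fin (n + 1)) k ^ 1 := by rw [pow_one]
  rw [h1, mem_pow_idealOfVars_iff', HomogeneousIdeal.mem_iff, HomogeneousIdeal.mem_irrelevant_iff,
    GradedRing.proj_apply, e, homogeneousComponent_zero, map_eq_zero_iff _ (C_injective _ _)]
  refine ⟨fun h d hd => ?_, fun h => h 0 (by simp)⟩
  rw [Nat.lt_one_iff, Finsupp.degree_eq_zero_iff] at hd
  rw [hd]
  exact h

theorem grading_zero (a : MvPolynomial (Fin (n + 1)) k) (ha : a ∈ CohB1.polyGrading n k 0) :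
    ∃ c : k, algebraMap k (MvPolynomial (Fin (n + 1)) k) c = a :=
  ⟨coeff 0 a, by
    have := homogeneousComponent_of_mem (m := 0) ha
    rw [if_pos rfl, homogeneousComponent_zero] at this
    exact this⟩

instance idealOfVars_isMaximal : (idealOfVars (Fin (n + 1)) k).IsMaximal := by
  rw [← irrelevant_eq]
  exact CMGraded.isMaximal_irrelevant (CohB1.polyGrading n k) grading_zero

theorem le_idealOfVars (hI : I.IsHomogeneous (CohB1.polyGrading n k)) (h : I ≠ ⊤) : I ≤ idealOfVars (Fin (n + 1)) k := by
  rw [← irrelevant_eq]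
  exact CMGraded.le_irrelevant (CohB1.polyGrading n k) grading_zero hI h

/-- The local ring at the vertex. -/
abbrev vRing (k : Type u) [Field k] (n : ℕ) : Type u := Localization.AtPrime (idealOfVars (Fin (n + 1)) k)

/-- The coordinate ring of the cone, localized at the vertex. -/
abbrev vMod (I : Ideal (MvPolynomial (Fin (n + 1)) k)) : Type u :=
  LocalizedModule (idealOfVars (Fin (n + 1)) k).primeCompl (MvPolynomial (Fin (n + 1)) k ⧸ I)

instance finite_vMod : Module.Finite (vRing k n) (vMod I) :=
  Module.Finite.of_isLocalizedModule (idealOfVars (Fin (n + 1)) k).primeCompl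
    (LocalizedModule.mkLinearMap (idealOfVars (Fin (n + 1)) k).primeCompl (MvPolynomial (Fin (n + 1)) k ⧸ I))

instance isNoetherianRing_vRing : IsNoetherianRing (vRing k n) :=
  IsLocalization.isNoetherianRing (idealOfVars (Fin (n + 1)) k).primeCompl _ inferInstance

/-- The colengths of powers of the maximal ideal at the vertex. -/
theorem colen_vMod (hI : I.IsHomogeneous (CohB1.polyGrading n k)) (t : ℕ) :
    (colen ((IsLocalRing.maximalIdeal (vRing k n)) ^ t • (⊤ : Submodule (vRing k n) (vMod I))) : ℚ) =
      ∑ j ∈ Finset.range t, hilb I j := by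
  obtain ⟨l, hl, hl'⟩ := length_quot_sup_pow hI t
  rw [colen_localized, ← hl', colen, ← ENat.toNat_coe l, ← hl]
  congr 2
  rw [← (Submodule.quotientQuotientEquivQuotientSup I (idealOfVars (Fin (n + 1)) k ^ t)).length_eq]
  refine (Submodule.quotEquivOfEq _ _ ?_).length_eq
  rw [← Submodule.range_mkQ I, ← Submodule.map_top, ← Submodule.map_smul'', smul_eq_mul, Ideal.mul_top]

/-- The dimension of a cone is computed at its vertex. -/
theorem supportDim_vMod (hI : I.IsHomogeneous (CohB1.polyGrading n k)) (h : I ≠ ⊤) :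
    Module.supportDim (vRing k n) (vMod I) = ringKrullDim (MvPolynomial (Fin (n + 1)) k ⧸ I) := by
  set m := idealOfVars (Fin (n + 1)) k with hm
  refine le_antisymm ((supportDim_localized_le m _).trans (le_of_eq (Module.supportDim_quotient_eq_ringKrullDim I))) ?_
  refine (CMGraded.ringKrullDim_le_height (CohB1.polyGrading n k) grading_zero I hI h).trans ?_
  rw [irrelevant_eq]
  have hle := le_idealOfVars hI h
  haveI hP : (m.map (Ideal.Quotient.mk I)).IsPrime :=
    Ideal.map_isPrime_of_surjective Ideal.Quotient.mk_surjective (by rwa [Ideal.mk_ker])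
  set P : PrimeSpectrum (MvPolynomial (Fin (n + 1)) k ⧸ I) := ⟨_, hP⟩
  rw [show (m.map (Ideal.Quotient.mk I)).height = Order.height P from PrimeSpectrum.height_eq_orderHeight P]
  haveI : Nontrivial (vMod I) := Module.mem_support_iff.1 (show (⟨m, inferInstance⟩ : PrimeSpectrum _) ∈
    Module.support (MvPolynomial (Fin (n + 1)) k) (MvPolynomial (Fin (n + 1)) k ⧸ I) from
      Module.mem_support_iff_of_finite.2 (by rw [Ideal.annihilator_quotient]; exact hle))
  obtain ⟨d, hd⟩ : ∃ d : ℕ∞, Module.supportDim (vRing k n) (vMod I) = (d : WithBot ℕ∞) :=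
    (WithBot.ne_bot_iff_exists.1 (Module.supportDim_ne_bot_of_nontrivial _ _)).imp fun _ h => h.symm
  rw [hd, WithBot.coe_le_coe]
  refine Order.height_le fun l hl => ?_
  let f : PrimeSpectrum (MvPolynomial (Fin (n + 1)) k ⧸ I) → PrimeSpectrum (MvPolynomial (Fin (n + 1)) k) :=
    PrimeSpectrum.comap (Ideal.Quotient.mk I)
  have hf : StrictMono f := fun a b hab =>
    lt_of_le_of_ne (Ideal.comap_mono (le_of_lt (show a < b from hab))) fun he =>
      (ne_of_lt hab) (PrimeSpectrum.comap_injective_of_surjective _ Ideal.Quotient.mk_surjective he)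
  have hb := exists_chain_localized m (MvPolynomial (Fin (n + 1)) k ⧸ I) (l.map f hf) (by
    rw [LTSeries.head_map, Module.mem_support_iff_of_finite, Ideal.annihilator_quotient]
    intro a ha
    show Ideal.Quotient.mk I a ∈ l.head.asIdeal
    rw [Ideal.Quotient.eq_zero_iff_mem.2 ha]
    exact Submodule.zero_mem _) (by
    rw [LTSeries.last_map]
    show (l.last.asIdeal).comap _ ≤ m
    rw [hl]
    show (m.map (Ideal.Quotient.mk I)).comap _ ≤ m
    rw [Ideal.comap_map_of_surjective' _ Ideal.Quotient.mk_surjective, Ideal.mk_ker]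
    exact sup_le le_rfl hle)
  rw [LTSeries.map_length] at hb
  exact WithBot.coe_le_coe.1 ((hb.trans (le_of_eq hd)))

theorem coeff_taylor_sub (P : Polynomial ℚ) {t : ℕ} (ht : P.natDegree = t + 1) (r : ℚ) :
    (Polynomial.taylor r P - P).coeff t = (t + 1 : ℚ) * r * P.leadingCoeff := by
  rw [Polynomial.coeff_sub, Polynomial.taylor_coeff,
    Polynomial.eval_eq_sum_range' (n := 2) (Nat.lt_succ_of_le ((Polynomial.natDegree_hasseDeriv_le P t).trans (by omega))),
    Finset.sum_range_succ, Finset.sum_range_one, Polynomial.hasseDeriv_coeff, Polynomial.hasseDeriv_coeff,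
    Polynomial.leadingCoeff, ht, zero_add, Nat.choose_self, show 1 + t = t + 1 by omega, Nat.choose_succ_self_right]
  push_cast
  ring

theorem natDegree_taylor_sub_lt {P : Polynomial ℚ} (h : 0 < P.natDegree) (r : ℚ) :
    (Polynomial.taylor r P - P).natDegree < P.natDegree := by
  rcases eq_or_ne (Polynomial.taylor r P - P) 0 with h0 | h0
  · rw [h0, Polynomial.natDegree_zero]
    exact h
  · have hP0 : P ≠ 0 := fun hP => by simp [hP] at h
    have := Polynomial.degree_sub_lt (Polynomial.degree_taylor P r)
      ((map_ne_zero_iff _ (Polynomial.taylor_injective r)).2 hP0) (Polynomial.leadingCoeff_taylor _ _)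
    rw [Polynomial.degree_taylor] at this
    exact Polynomial.natDegree_lt_natDegree h0 this

theorem eq_of_eventually_eq {P Q : Polynomial ℚ} (h : ∀ᶠ j : ℕ in atTop, P.eval (j : ℚ) = Q.eval (j : ℚ)) : P = Q := by
  refine sub_eq_zero.1 (Polynomial.eq_zero_of_infinite_isRoot _ ?_)
  obtain ⟨N, hN⟩ := eventually_atTop.1 h
  refine Set.infinite_of_injective_forall_mem (f := fun j : ℕ => ((N + j : ℕ) : ℚ))
    (fun a b hab => by simpa using hab) fun j => ?_
  show Polynomial.IsRoot _ _
  rw [Polynomial.IsRoot, Polynomial.eval_sub, hN _ (Nat.le_add_right N j), sub_self]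

/-- The Hilbert–Samuel polynomial at the vertex in terms of the Hilbert polynomial. -/
theorem exists_vertex_poly (hI : I.IsHomogeneous (CohB1.polyGrading n k)) {P : Polynomial ℚ}
    (hP : ∀ᶠ j : ℕ in atTop, P.eval (j : ℚ) = hilb I j) :
    ∃ S : Polynomial ℚ, IsHSPoly (IsLocalRing.maximalIdeal (vRing k n)) (vMod I) S ∧
      (P = 0 → S.natDegree = 0) ∧ (P ≠ 0 → S.natDegree = P.natDegree + 1 ∧
        ((P.natDegree + 1).factorial : ℚ) * S.leadingCoeff = (P.natDegree.factorial : ℚ) * P.leadingCoeff) := by
  have hfl : ∀ p ∈ Module.support (vRing k n) (vMod I), IsLocalRing.maximalIdeal (vRing k n) ≤ p.asIdeal →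
      p.asIdeal.IsMaximal := fun p _ h =>
    (IsLocalRing.maximalIdeal.isMaximal (vRing k n)).eq_of_le p.isPrime.ne_top h ▸
      IsLocalRing.maximalIdeal.isMaximal (vRing k n)
  obtain ⟨S, hS⟩ := exists_isHSPoly (M := vMod I) (IsLocalRing.maximalIdeal (vRing k n)) (length_pow_ne_top hfl)
  have hD : Polynomial.taylor 1 S - S = P := by
    refine eq_of_eventually_eq ?_
    filter_upwards [hP, hS, (tendsto_add_atTop_nat 1).eventually hS] with j h1 h2 h3
    rw [colen_vMod hI] at h2 h3
    rw [Polynomial.eval_sub, Polynomial.taylor_eval, h1]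
    push_cast at h3
    rw [show ((j : ℚ) + 1) = 1 + j by ring] at h3 ⊢
    rw [← h3, ← h2, Finset.sum_range_succ]
    ring
  refine ⟨S, hS, fun h0 => ?_, fun h0 => ?_⟩
  · by_contra hne
    obtain ⟨t, ht⟩ : ∃ t, S.natDegree = t + 1 := ⟨S.natDegree - 1, by omega⟩
    have h1 := coeff_taylor_sub S ht 1
    rw [hD, h0, Polynomial.coeff_zero, mul_one, eq_comm, mul_eq_zero] at h1
    rcases h1 with h1 | h1
    · exact absurd h1 (by positivity)
    · rw [Polynomial.leadingCoeff_eq_zero] at h1
      exact hne (by rw [h1, Polynomial.natDegree_zero])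
  · have hpos : 0 < S.natDegree := by
      refine Nat.pos_of_ne_zero fun h => h0 ?_
      rw [← hD, Polynomial.eq_C_of_natDegree_eq_zero h, Polynomial.taylor_C, sub_self]
    obtain ⟨t, ht⟩ : ∃ t, S.natDegree = t + 1 := ⟨S.natDegree - 1, by omega⟩
    have h1 := coeff_taylor_sub S ht 1
    have h2 := natDegree_taylor_sub_lt hpos 1
    rw [hD] at h1 h2
    have hlead : S.leadingCoeff ≠ 0 := by
      rw [Polynomial.leadingCoeff_ne_zero]
      intro h
      rw [h, Polynomial.natDegree_zero] at hpos
      omega
    have hPt : P.natDegree = t := le_antisymm (by omega) (Polynomial.le_natDegree_of_ne_zero (by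
      rw [h1]
      exact mul_ne_zero (mul_ne_zero (by positivity) one_ne_zero) hlead))
    refine ⟨by omega, ?_⟩
    rw [hPt, ← show P.coeff t = P.leadingCoeff by rw [Polynomial.leadingCoeff, hPt], h1, Nat.factorial_succ]
    push_cast
    ring

/-- The dimension of the cone from the Hilbert polynomial. -/
theorem ringKrullDim_eq_of_hilb (hI : I.IsHomogeneous (CohB1.polyGrading n k)) (h : I ≠ ⊤) {P : Polynomial ℚ}
    (hP : ∀ᶠ j : ℕ in atTop, P.eval (j : ℚ) = hilb I j) :
    ∃ D : ℕ, ringKrullDim (MvPolynomial (Fin (n + 1)) k ⧸ I) = (D : WithBot ℕ∞) ∧ (P = 0 → D = 0) ∧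
      (P ≠ 0 → D = P.natDegree + 1) ∧
      (P ≠ 0 → Tendsto (eSeq (IsLocalRing.maximalIdeal (vRing k n)) D (vMod I)) atTop
        (nhds (((P.natDegree.factorial : ℚ) * P.leadingCoeff : ℚ) : ℝ))) := by
  obtain ⟨S, hS, h0, h1⟩ := exists_vertex_poly hI hP
  have hfl : ∀ p ∈ Module.support (vRing k n) (vMod I), IsLocalRing.maximalIdeal (vRing k n) ≤ p.asIdeal →
      p.asIdeal.IsMaximal := fun p _ h =>
    (IsLocalRing.maximalIdeal.isMaximal (vRing k n)).eq_of_le p.isPrime.ne_top h ▸
      IsLocalRing.maximalIdeal.isMaximal (vRing k n)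
  have hj : IsLocalRing.maximalIdeal (vRing k n) ≤ Ring.jacobson (vRing k n) :=
    (IsLocalRing.ringJacobson_eq_maximalIdeal _).ge
  have hup := supportDim_le_natDegree hj (vMod I) hfl S hS
  have hdim := supportDim_vMod hI h
  haveI : Nontrivial (MvPolynomial (Fin (n + 1)) k ⧸ I) := Ideal.Quotient.nontrivial_iff.2 h
  obtain ⟨D, hD⟩ : ∃ D : ℕ, ringKrullDim (MvPolynomial (Fin (n + 1)) k ⧸ I) = (D : WithBot ℕ∞) := by
    rw [hdim] at hup
    have hb : ringKrullDim (MvPolynomial (Fin (n + 1)) k ⧸ I) ≠ ⊥ := fun hb => by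
      have := ringKrullDim_nonneg_of_nontrivial (R := MvPolynomial (Fin (n + 1)) k ⧸ I)
      simp [hb] at this
    revert hup hb
    generalize ringKrullDim (MvPolynomial (Fin (n + 1)) k ⧸ I) = s
    intro hup hb
    cases s using WithBot.recBotCoe with
    | bot => exact absurd rfl hb
    | coe a =>
      cases a using ENat.recTopCoe with
      | top => exact absurd (WithBot.coe_le_coe.1 hup) (by simp)
      | coe b => exact ⟨b, rfl⟩
  haveI : Subsingleton (MaximalSpectrum (vRing k n)) := ⟨fun a b => MaximalSpectrum.ext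
    ((IsLocalRing.eq_maximalIdeal a.isMaximal).trans (IsLocalRing.eq_maximalIdeal b.isMaximal).symm)⟩
  haveI : Finite (MaximalSpectrum (vRing k n)) := Finite.of_subsingleton
  have hdeg : S.natDegree = D := by
    rw [hdim, hD, Nat.cast_le] at hup
    exact le_antisymm (natDegree_le_supportDim hj hfl hS (by rw [hdim, hD])) hup
  refine ⟨D, hD, fun hp => by rw [← hdeg, h0 hp], fun hp => by rw [← hdeg, (h1 hp).1], fun hp => ?_⟩
  convert tendsto_eSeq_of_poly hS hdeg.le using 2
  obtain ⟨h2, h3⟩ := h1 hp
  rw [← h3, ← hdeg, Polynomial.coeff_natDegree, h2]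
  push_cast
  rfl

end Groth.Agent.HSLib
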