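import Groth.Agent.HSLib.ProjDeg
import Groth.Agent.AffineDim.Covering

/-!
# The degree of a projective scheme as a sum over its components
-/

set_option autoImplicit false
set_option backward.isDefEq.respectTransparency false

universe u

open Filter MvPolynomial

namespace Groth.Agent.HSLib

section Local

variable {R : Type u} [CommRing R]

theorem length_loc_exact (p : Ideal R) [p.IsPrime] {M N P : Type u} [AddCommGroup M] [Module R M] [AddCommGroup N]
    [Module R N] [AddCommGroup P] [Module R P] (f : M →ₗ[R] N) (g : N →ₗ[R] P) (hf : Function.Injective f)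
    (hg : Function.Surjective g) (hfg : Function.Exact f g) :
    Module.length (Localization.AtPrime p) (LocalizedModule p.primeCompl N) =
      Module.length (Localization.AtPrime p) (LocalizedModule p.primeCompl M) +
        Module.length (Localization.AtPrime p) (LocalizedModule p.primeCompl P) :=
  Module.length_eq_add_of_exact (LocalizedModule.map p.primeCompl f) (LocalizedModule.map p.primeCompl g)
    (LocalizedModule.map_injective _ f hf) (LocalizedModule.map_surjective _ g hg) (LocalizedModule.map_exact _ f g hfg)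

theorem length_loc_congr (p : Ideal R) [p.IsPrime] {M N : Type u} [AddCommGroup M] [Module R M] [AddCommGroup N]
    [Module R N] (e : M ≃ₗ[R] N) :
    Module.length (Localization.AtPrime p) (LocalizedModule p.primeCompl M) =
      Module.length (Localization.AtPrime p) (LocalizedModule p.primeCompl N) :=
  (LinearEquiv.ofBijective (LocalizedModule.map p.primeCompl e.toLinearMap)
    ⟨LocalizedModule.map_injective _ _ e.injective, LocalizedModule.map_surjective _ _ e.surjective⟩).length_eq

theorem length_loc_quot_self (p : Ideal R) [p.IsPrime] :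
    Module.length (Localization.AtPrime p) (LocalizedModule p.primeCompl (R ⧸ p)) = 1 := by
  obtain ⟨e⟩ := nonempty_localized_quot_equiv p p
  haveI : IsSimpleModule (Localization.AtPrime p)
      (Localization.AtPrime p ⧸ p.map (algebraMap R (Localization.AtPrime p))) := by
    rw [Localization.AtPrime.map_eq_maximalIdeal]
    exact isSimpleModule_iff_isCoatom.2 (IsLocalRing.maximalIdeal.isMaximal (Localization.AtPrime p)).out
  rw [e.length_eq, Module.length_eq_one]

theorem length_loc_eq_zero (p : Ideal R) [p.IsPrime] (M : Type u) [AddCommGroup M] [Module R M] [Module.Finite R M]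
    (h : ¬ Module.annihilator R M ≤ p) :
    Module.length (Localization.AtPrime p) (LocalizedModule p.primeCompl M) = 0 := by
  haveI : Subsingleton (LocalizedModule p.primeCompl M) :=
    Module.notMem_support_iff.1 (fun h' : (⟨p, inferInstance⟩ : PrimeSpectrum R) ∈ Module.support R M =>
      h (Module.mem_support_iff_of_finite.1 h'))
  exact Module.length_eq_zero

/-- Lengths at a minimal point of the support do not change when localizing first at a bigger prime. -/
theorem length_loc_loc [IsNoetherianRing R] (m p : Ideal R) [m.IsPrime] [p.IsPrime] (hpm : p ≤ m)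
    (q : Ideal (Localization.AtPrime m)) [q.IsPrime] (hq : q = p.map (algebraMap R (Localization.AtPrime m)))
    (N : Type u) [AddCommGroup N] [Module R N] [hN : Module.Finite R N]
    (h : ∀ P ∈ Module.support R N, P.asIdeal ≤ p → P.asIdeal = p) :
    Module.length (Localization.AtPrime q) (LocalizedModule q.primeCompl (LocalizedModule m.primeCompl N)) =
      Module.length (Localization.AtPrime p) (LocalizedModule p.primeCompl N) := by
  revert h
  induction hN using IsNoetherianRing.induction_on_isQuotientEquivQuotientPrime R with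
  | subsingleton N =>
    intro _
    haveI : Subsingleton (LocalizedModule m.primeCompl N) := (LocalizedModule.subsingleton_iff (S := m.primeCompl)).mpr
      fun x => ⟨1, m.primeCompl.one_mem, Subsingleton.elim _ _⟩
    haveI : Subsingleton (LocalizedModule p.primeCompl N) := (LocalizedModule.subsingleton_iff (S := p.primeCompl)).mpr
      fun x => ⟨1, p.primeCompl.one_mem, Subsingleton.elim _ _⟩
    haveI : Subsingleton (LocalizedModule q.primeCompl (LocalizedModule m.primeCompl N)) :=
      (LocalizedModule.subsingleton_iff (S := q.primeCompl)).mpr fun x => ⟨1, q.primeCompl.one_mem, Subsingleton.elim _ _⟩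
    rw [Module.length_eq_zero, Module.length_eq_zero]
  | quotient N P e =>
    intro h
    obtain ⟨eP⟩ := nonempty_localized_quot_equiv m P.asIdeal
    have e' : LocalizedModule m.primeCompl N ≃ₗ[Localization.AtPrime m]
        (Localization.AtPrime m ⧸ P.asIdeal.map (algebraMap R (Localization.AtPrime m))) :=
      (LinearEquiv.ofBijective (LocalizedModule.map m.primeCompl e.toLinearMap)
        ⟨LocalizedModule.map_injective _ _ e.injective, LocalizedModule.map_surjective _ _ e.surjective⟩).trans eP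
    rw [length_loc_congr q e', length_loc_congr p e]
    by_cases hle : P.asIdeal ≤ p
    · have hP : P.asIdeal = p := h P (e.support_eq ▸ Module.mem_support_iff_of_finite.2
        (le_of_eq Ideal.annihilator_quotient)) hle
      subst hP
      subst hq
      rw [length_loc_quot_self, length_loc_quot_self]
    · rw [length_loc_eq_zero p _ (by rwa [Ideal.annihilator_quotient]), length_loc_eq_zero q]
      rw [Ideal.annihilator_quotient, Ideal.map_le_iff_le_comap]
      refine fun hc => hle (hc.trans (le_of_eq ?_))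
      rw [hq]
      exact IsLocalization.comap_map_of_isPrime_disjoint m.primeCompl _ inferInstance
        (Set.disjoint_left.2 fun x hx hxp => hx (hpm hxp))
  | exact N1 N2 N3 f g hf hg hfg h1 h3 =>
    intro h
    rw [length_loc_exact p f g hf hg hfg, length_loc_exact q (LocalizedModule.map m.primeCompl f)
        (LocalizedModule.map m.primeCompl g) (LocalizedModule.map_injective _ f hf)
        (LocalizedModule.map_surjective _ g hg) (LocalizedModule.map_exact _ f g hfg),
      h1 fun P hP => h P (Module.support_subset_of_injective f hf hP),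
      h3 fun P hP => h P (Module.support_subset_of_surjective g hg hP)]

theorem eSeq_congr {I : Ideal R} {d : ℕ} {M N : Type u} [AddCommGroup M] [Module R M] [AddCommGroup N] [Module R N]
    (e : M ≃ₗ[R] N) : eSeq I d M = eSeq I d N := by
  funext t
  rw [eSeq, eSeq, colen, colen]
  congr 4
  exact (Submodule.Quotient.equiv _ _ e (by
    rw [Submodule.map_smul'', Submodule.map_top, LinearMap.range_eq_top.2 e.surjective])).length_eq

end Local

variable {k : Type u} [Field k] {n : ℕ}

theorem hilb_nonneg (I : Ideal (MvPolynomial (Fin (n + 1)) k)) (j : ℕ) : 0 ≤ hilb I j := by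
  haveI := finite_polyGrading (k := k) (n := n) j
  rw [hilb, sub_nonneg, Nat.cast_le]
  exact Submodule.finrank_mono inf_le_right

theorem hilb_anti {I J : Ideal (MvPolynomial (Fin (n + 1)) k)} (h : I ≤ J) (j : ℕ) : hilb J j ≤ hilb I j := by
  haveI := finite_polyGrading (k := k) (n := n) j
  haveI : Module.Finite k ↥(Submodule.restrictScalars k J ⊓ CohB1.polyGrading n k j) :=
    Submodule.finiteDimensional_of_le inf_le_right
  rw [hilb, hilb, sub_le_sub_iff_left, Nat.cast_le]
  exact Submodule.finrank_mono (inf_le_inf_right _ h)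

theorem hilb_top (j : ℕ) : hilb (⊤ : Ideal (MvPolynomial (Fin (n + 1)) k)) j = 0 := by
  rw [hilb, Submodule.restrictScalars_top, top_inf_eq, sub_self]

theorem ne_top_of_hilb {I : Ideal (MvPolynomial (Fin (n + 1)) k)} {P : Polynomial ℚ}
    (hP : ∀ᶠ j : ℕ in atTop, P.eval (j : ℚ) = hilb I j) (h0 : P ≠ 0) : I ≠ ⊤ := fun h =>
  h0 <| eq_of_eventually_eq <| hP.mono fun j hj => by rw [hj, Polynomial.eval_zero, h, hilb_top]

set_option maxHeartbeats 1000000 in
/-- The degree of a projective scheme is the sum of the degrees of its top dimensional components with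
multiplicities. -/
theorem degree_eq_sum {I : Ideal (MvPolynomial (Fin (n + 1)) k)} (hI : I.IsHomogeneous (CohB1.polyGrading n k))
    {P : Polynomial ℚ} (hP : ∀ᶠ j : ℕ in atTop, P.eval (j : ℚ) = hilb I j) {r : ℕ}
    (p : Fin r → Ideal (MvPolynomial (Fin (n + 1)) k)) [hp : ∀ i, (p i).IsPrime] (hpinj : Function.Injective p)
    (hpmin : ∀ q : Ideal (MvPolynomial (Fin (n + 1)) k), q ∈ I.minimalPrimes ↔ ∃ i, q = p i)
    (Qp : Fin r → Polynomial ℚ) (hQp : ∀ i, ∀ᶠ j : ℕ in atTop, (Qp i).eval (j : ℚ) = hilb (p i) j) :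
    (P.natDegree.factorial : ℚ) * P.leadingCoeff =
      ∑ i : Fin r, if (Qp i).natDegree = P.natDegree then
        ((Qp i).natDegree.factorial : ℚ) * (Qp i).leadingCoeff *
          (Module.length (Localization.AtPrime (p i))
            (LocalizedModule (p i).primeCompl (MvPolynomial (Fin (n + 1)) k ⧸ I))).toNat
      else 0 := by
  classical
  have hmem : ∀ i, p i ∈ I.minimalPrimes := fun i => (hpmin _).2 ⟨i, rfl⟩
  have hIp : ∀ i, I ≤ p i := fun i => (hmem i).1.2
  by_cases hP0 : P = 0
  · have hQ0 : ∀ i, Qp i = 0 := fun i => eq_of_eventually_eq <| by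
      filter_upwards [hP, hQp i] with j h1 h2
      rw [hP0, Polynomial.eval_zero] at h1
      rw [h2, Polynomial.eval_zero]
      exact le_antisymm ((hilb_anti (hIp i) j).trans h1.ge) (hilb_nonneg _ _)
    simp [hP0, hQ0]
  have hI1 : I ≠ ⊤ := ne_top_of_hilb hP hP0
  set m := idealOfVars (Fin (n + 1)) k with hm
  have hIm : I ≤ m := le_idealOfVars hI hI1
  have hph : ∀ i, (p i).IsHomogeneous (CohB1.polyGrading n k) := fun i =>
    CMGraded.isHomogeneous_of_mem_minimalPrimes (CohB1.polyGrading n k) hI (hmem i)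
  have hpm : ∀ i, p i ≤ m := fun i => le_idealOfVars (hph i) (hp i).ne_top
  have hdis : ∀ i, Disjoint (m.primeCompl : Set (MvPolynomial (Fin (n + 1)) k)) (p i : Set _) := fun i =>
    Set.disjoint_left.2 fun x hx hxp => hx (hpm i hxp)
  haveI : DecidableEq (PrimeSpectrum (vRing k n)) := fun a b => Classical.propDecidable _
  obtain ⟨q, hqdef⟩ : ∃ q : Fin r → PrimeSpectrum (vRing k n),
      ∀ i, (q i).asIdeal = (p i).map (algebraMap _ (vRing k n)) :=
    ⟨fun i => ⟨(p i).map (algebraMap _ (vRing k n)),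
      IsLocalization.isPrime_of_isPrime_disjoint m.primeCompl _ _ (hp i) (hdis i)⟩, fun i => rfl⟩
  have hqc : ∀ i, (q i).asIdeal.comap (algebraMap _ (vRing k n)) = p i := fun i => by
    rw [hqdef]
    exact IsLocalization.comap_map_of_isPrime_disjoint m.primeCompl _ (hp i) (hdis i)
  have hqinj : Function.Injective q := fun a b h => hpinj (by rw [← hqc a, ← hqc b, h])
  obtain ⟨D, hD, -, hD1, hlim⟩ := ringKrullDim_eq_of_hilb hI hI1 hP
  have hsd : Module.supportDim (vRing k n) (vMod I) = (D : WithBot ℕ∞) := (supportDim_vMod hI hI1).trans hD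
  have hDi : ∀ i, ∃ Di : ℕ, ringKrullDim (MvPolynomial (Fin (n + 1)) k ⧸ p i) = (Di : WithBot ℕ∞) ∧
      ringKrullDim (vRing k n ⧸ (q i).asIdeal) = (Di : WithBot ℕ∞) ∧
      (Qp i = 0 → Di = 0) ∧ (Qp i ≠ 0 → Di = (Qp i).natDegree + 1) ∧
      (Qp i ≠ 0 → Tendsto (eSeq (IsLocalRing.maximalIdeal (vRing k n)) Di (vRing k n ⧸ (q i).asIdeal)) atTop
        (nhds ((((Qp i).natDegree.factorial : ℚ) * (Qp i).leadingCoeff : ℚ) : ℝ))) := by
    intro i
    obtain ⟨Di, hDi, h0, h1, h2⟩ := ringKrullDim_eq_of_hilb (hph i) (hp i).ne_top (hQp i)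
    obtain ⟨e⟩ := nonempty_localized_quot_equiv m (p i)
    rw [hqdef]
    refine ⟨Di, hDi, ?_, h0, h1, fun hne => (eSeq_congr e) ▸ h2 hne⟩
    rw [← Module.supportDim_quotient_eq_ringKrullDim]
    exact ((Module.supportDim_eq_of_equiv e).symm.trans (supportDim_vMod (hph i) (hp i).ne_top)).trans hDi
  choose Di hDip hDiq hDi0 hDi1 hDilim using hDi
  have hsupp : ∀ q' : PrimeSpectrum (vRing k n), q' ∈ Module.support (vRing k n) (vMod I) ↔
      I ≤ q'.asIdeal.comap (algebraMap _ (vRing k n)) := by
    intro q'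
    obtain ⟨e⟩ := nonempty_localized_quot_equiv m I
    rw [e.support_eq, Module.mem_support_iff_of_finite, Ideal.annihilator_quotient, Ideal.map_le_iff_le_comap]
  let T : Finset (Fin r) := Finset.univ.filter fun i => Di i = D
  have hS : ∀ q', q' ∈ T.image q ↔ q' ∈ Module.support (vRing k n) (vMod I) ∧
      ringKrullDim (vRing k n ⧸ q'.asIdeal) = (D : WithBot ℕ∞) := by
    intro q'
    constructor
    · rw [Finset.mem_image]
      rintro ⟨i, hi, rfl⟩
      refine ⟨(hsupp _).2 (by rw [hqc]; exact hIp i), ?_⟩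
      rw [hDiq, (Finset.mem_filter.1 hi).2]
    · rintro ⟨hq', hdim⟩
      obtain ⟨p', hp', hp'le⟩ := Ideal.exists_minimalPrimes_le ((hsupp q').1 hq')
      obtain ⟨i, rfl⟩ := (hpmin p').1 hp'
      have hle : (q i).asIdeal ≤ q'.asIdeal := (hqdef i).trans_le (Ideal.map_le_iff_le_comap.2 hp'le)
      have hDle : Di i ≤ D := by
        have h1 : ringKrullDim (MvPolynomial (Fin (n + 1)) k ⧸ p i) ≤ ringKrullDim (MvPolynomial (Fin (n + 1)) k ⧸ I) :=
          ringKrullDim_le_of_surjective (Ideal.Quotient.factor (hIp i)) (Ideal.Quotient.factor_surjective _)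
        rw [hDip, hD] at h1
        exact_mod_cast h1
      rcases eq_or_lt_of_le hle with heq | hlt
      · obtain rfl : q i = q' := PrimeSpectrum.ext heq
        refine Finset.mem_image.2 ⟨i, Finset.mem_filter.2 ⟨Finset.mem_univ _, ?_⟩, rfl⟩
        rw [hDiq] at hdim
        exact_mod_cast hdim
      · exfalso
        have h1 := GrSegreLib.ringKrullDim_quotient_succ_le (p := (q i).asIdeal) hlt
        rw [hdim, hDiq] at h1
        have h2 : D + 1 ≤ Di i := by exact_mod_cast h1
        omega
  have hfl : ∀ p ∈ Module.support (vRing k n) (vMod I), IsLocalRing.maximalIdeal (vRing k n) ≤ p.asIdeal →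
      p.asIdeal.IsMaximal := fun p _ h =>
    (IsLocalRing.maximalIdeal.isMaximal (vRing k n)).eq_of_le p.isPrime.ne_top h ▸
      IsLocalRing.maximalIdeal.isMaximal (vRing k n)
  haveI : Subsingleton (MaximalSpectrum (vRing k n)) := ⟨fun a b => MaximalSpectrum.ext
    ((IsLocalRing.eq_maximalIdeal a.isMaximal).trans (IsLocalRing.eq_maximalIdeal b.isMaximal).symm)⟩
  haveI : Finite (MaximalSpectrum (vRing k n)) := Finite.of_subsingleton
  have hD0 : D = P.natDegree + 1 := hD1 hP0
  have hT0 : ∀ i ∈ T, Qp i ≠ 0 ∧ (Qp i).natDegree = P.natDegree := fun i hi => by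
    have h := (Finset.mem_filter.1 hi).2
    have hne : Qp i ≠ 0 := fun h0 => by rw [hDi0 i h0] at h; omega
    exact ⟨hne, by rw [hDi1 i hne] at h; omega⟩
  obtain ⟨val, hval⟩ : ∃ val : Fin r → ℝ, val =
      fun i => ((((Qp i).natDegree.factorial : ℚ) * (Qp i).leadingCoeff : ℚ) : ℝ) := ⟨_, rfl⟩
  let E : PrimeSpectrum (vRing k n) → ℝ := fun q' => ∑ i ∈ T, if q i = q' then val i else 0
  have hE : ∀ i ∈ T, E (q i) = val i := fun i hi => by
    show (∑ x ∈ T, if q x = q i then val x else 0) = val i
    rw [Finset.sum_eq_single_of_mem i hi fun b _ hb => if_neg fun h => hb (hqinj h), if_pos rfl]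
  have hsum := tendsto_eSeq_sum (IsLocalRing.ringJacobson_eq_maximalIdeal (vRing k n)).ge (M := vMod I) hfl
    (T.image q) hS hsd.le E (fun q' hq' => by
      obtain ⟨i, hi, rfl⟩ := Finset.mem_image.1 hq'
      rw [hE i hi, hval, ← (Finset.mem_filter.1 hi).2]
      exact hDilim i (hT0 i hi).1)
  have huniq := tendsto_nhds_unique (hlim hP0) hsum
  rw [Finset.sum_image fun a _ b _ h => hqinj h] at huniq
  have hlen : ∀ i, Module.length (Localization.AtPrime (q i).asIdeal) (LocalizedModule (q i).asIdeal.primeCompl (vMod I)) =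
      Module.length (Localization.AtPrime (p i)) (LocalizedModule (p i).primeCompl (MvPolynomial (Fin (n + 1)) k ⧸ I)) :=
    fun i => length_loc_loc m (p i) (hpm i) (q i).asIdeal (hqdef i) _ fun P hP hle => by
      rw [Module.mem_support_iff_of_finite, Ideal.annihilator_quotient] at hP
      exact le_antisymm hle ((hmem i).2 ⟨P.isPrime, hP⟩ hle)
  have key : (P.natDegree.factorial : ℚ) * P.leadingCoeff = ∑ i ∈ T,
      ((Qp i).natDegree.factorial : ℚ) * (Qp i).leadingCoeff *
        (Module.length (Localization.AtPrime (p i))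
          (LocalizedModule (p i).primeCompl (MvPolynomial (Fin (n + 1)) k ⧸ I))).toNat := by
    refine Rat.cast_injective (α := ℝ) (huniq.trans ?_)
    rw [Rat.cast_sum]
    refine Finset.sum_congr rfl fun i hi => ?_
    rw [hE i hi, hlen i]
    push_cast
    simp only [hval]
    push_cast
    ring
  rw [key, Finset.sum_filter]
  refine Finset.sum_congr rfl fun i _ => ?_
  by_cases hi : Di i = D
  · rw [if_pos hi, if_pos (hT0 i (Finset.mem_filter.2 ⟨Finset.mem_univ _, hi⟩)).2]
  · rw [if_neg hi]
    split_ifs with h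
    · rcases eq_or_ne (Qp i) 0 with h0 | h0
      · simp [h0]
      · exact absurd (by rw [hDi1 i h0, h, hD0]) hi
    · rfl

/-- Cutting by a form of degree `d` outside a homogeneous prime. -/
theorem hilb_sup_span {I : Ideal (MvPolynomial (Fin (n + 1)) k)} (hI : I.IsHomogeneous (CohB1.polyGrading n k))
    [hIp : I.IsPrime] {f : MvPolynomial (Fin (n + 1)) k} {d : ℕ} (hf : f.IsHomogeneous d) (hfI : f ∉ I) {j : ℕ}
    (hj : d ≤ j) : hilb (I ⊔ Ideal.span {f}) j = hilb I j - hilb I (j - d) := by
  haveI := finite_polyGrading (k := k) (n := n) j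
  haveI := finite_polyGrading (k := k) (n := n) (j - d)
  have hfd : f ∈ CohB1.polyGrading n k d := hf
  have hf0 : f ≠ 0 := fun h => hfI (h ▸ I.zero_mem)
  let μ : MvPolynomial (Fin (n + 1)) k →ₗ[k] MvPolynomial (Fin (n + 1)) k := LinearMap.mulLeft k f
  have hμ : Function.Injective μ := mul_right_injective₀ hf0
  set A := Submodule.restrictScalars k I ⊓ CohB1.polyGrading n k j with hA
  set A' := Submodule.restrictScalars k I ⊓ CohB1.polyGrading n k (j - d) with hA'
  set B := (CohB1.polyGrading n k (j - d)).map μ with hB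
  have hmul : ∀ g ∈ CohB1.polyGrading n k (j - d), f * g ∈ CohB1.polyGrading n k j := fun g hg => by
    have := SetLike.mul_mem_graded hfd hg
    rwa [Nat.add_sub_cancel' hj] at this
  have hinf : A ⊓ B = A'.map μ := by
    ext x
    constructor
    · rintro ⟨⟨hxI, -⟩, g, hg, rfl⟩
      exact ⟨g, ⟨(hIp.mem_or_mem hxI).resolve_left hfI, hg⟩, rfl⟩
    · rintro ⟨g, ⟨hgI, hg⟩, rfl⟩
      exact ⟨⟨I.mul_mem_left f hgI, hmul g hg⟩, g, hg, rfl⟩
  have hsup : A ⊔ B = Submodule.restrictScalars k (I ⊔ Ideal.span {f}) ⊓ CohB1.polyGrading n k j := by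
    refine le_antisymm (sup_le (inf_le_inf_right _ fun x hx => Ideal.mem_sup_left hx) ?_) ?_
    · rintro _ ⟨g, hg, rfl⟩
      exact ⟨Ideal.mem_sup_right (Ideal.mul_mem_right g _ (Ideal.mem_span_singleton_self f)), hmul g hg⟩
    · rintro x ⟨hx, hxj⟩
      obtain ⟨a, ha, b, hb, hab⟩ := Submodule.mem_sup.1 (show x ∈ I ⊔ Ideal.span {f} from hx)
      obtain ⟨c, rfl⟩ := Ideal.mem_span_singleton'.1 hb
      have h1 := congrArg (fun y => ((DirectSum.decompose (CohB1.polyGrading n k) y j : CohB1.polyGrading n k j) :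
        MvPolynomial (Fin (n + 1)) k)) hab
      simp only [DirectSum.decompose_add, DirectSum.add_apply, Submodule.coe_add] at h1
      rw [DirectSum.decompose_of_mem_same _ hxj, mul_comm c f,
        DirectSum.coe_decompose_mul_of_left_mem_of_le _ hfd hj] at h1
      rw [← h1]
      exact Submodule.add_mem_sup ⟨hI j ha, SetLike.coe_mem _⟩ ⟨_, SetLike.coe_mem _, rfl⟩
  haveI : Module.Finite k ↥A := Submodule.finiteDimensional_of_le inf_le_right
  haveI : Module.Finite k ↥B := inferInstance
  have h1 := Submodule.finrank_sup_add_finrank_inf_eq A B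
  have hB1 : Module.finrank k ↥B = Module.finrank k ↥(CohB1.polyGrading n k (j - d)) :=
    (Submodule.equivMapOfInjective μ hμ _).finrank_eq.symm
  have hA1 : Module.finrank k ↥(A'.map μ) = Module.finrank k ↥A' :=
    (Submodule.equivMapOfInjective μ hμ _).finrank_eq.symm
  rw [hinf, hsup, hA1, hB1] at h1
  rw [hilb, hilb, hilb, ← hA, ← hA']
  have h2 : (Module.finrank k ↥(Submodule.restrictScalars k (I ⊔ Ideal.span {f}) ⊓ CohB1.polyGrading n k j) : ℚ) +
      Module.finrank k ↥A' = Module.finrank k ↥A + Module.finrank k ↥(CohB1.polyGrading n k (j - d)) := by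
    exact_mod_cast h1
  linarith

theorem eventually_hilb_sup_span {I : Ideal (MvPolynomial (Fin (n + 1)) k)}
    (hI : I.IsHomogeneous (CohB1.polyGrading n k)) [I.IsPrime] {f : MvPolynomial (Fin (n + 1)) k} {d : ℕ}
    (hf : f.IsHomogeneous d) (hfI : f ∉ I) {P : Polynomial ℚ} (hP : ∀ᶠ j : ℕ in atTop, P.eval (j : ℚ) = hilb I j) :
    ∀ᶠ j : ℕ in atTop, (P - Polynomial.taylor (-(d : ℚ)) P).eval (j : ℚ) = hilb (I ⊔ Ideal.span {f}) j := by
  filter_upwards [hP, (tendsto_sub_atTop_nat d).eventually hP, eventually_ge_atTop d] with j h1 h2 hj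
  rw [hilb_sup_span hI hf hfI hj, Polynomial.eval_sub, Polynomial.taylor_eval, ← h1, ← h2, Nat.cast_sub hj]
  ring_nf

theorem degree_sub_taylor {P : Polynomial ℚ} (hdim : 1 ≤ P.natDegree) {d : ℕ} (hd : 0 < d) :
    (P - Polynomial.taylor (-(d : ℚ)) P).natDegree + 1 = P.natDegree ∧
      ((P - Polynomial.taylor (-(d : ℚ)) P).natDegree.factorial : ℚ) * (P - Polynomial.taylor (-(d : ℚ)) P).leadingCoeff =
        d * ((P.natDegree.factorial : ℚ) * P.leadingCoeff) := by
  obtain ⟨t, ht⟩ : ∃ t, P.natDegree = t + 1 := ⟨P.natDegree - 1, by omega⟩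
  set Q := P - Polynomial.taylor (-(d : ℚ)) P with hQ
  have hneg : Q = -(Polynomial.taylor (-(d : ℚ)) P - P) := (neg_sub _ _).symm
  have hc : Q.coeff t = (t + 1 : ℚ) * d * P.leadingCoeff := by
    rw [hneg, Polynomial.coeff_neg, coeff_taylor_sub P ht]
    ring
  have hlead : P.leadingCoeff ≠ 0 := Polynomial.leadingCoeff_ne_zero.2 fun h => by simp [h] at hdim
  have hd' : (d : ℚ) ≠ 0 := Nat.cast_ne_zero.2 hd.ne'
  have hQt : Q.natDegree = t := by
    refine le_antisymm ?_ (Polynomial.le_natDegree_of_ne_zero ?_)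
    · have := natDegree_taylor_sub_lt (P := P) (by omega) (-(d : ℚ))
      rw [← Polynomial.natDegree_neg, ← hneg] at this
      omega
    · rw [hc]
      exact mul_ne_zero (mul_ne_zero (by positivity) hd') hlead
  refine ⟨by omega, ?_⟩
  rw [hQt, ← show Q.coeff t = Q.leadingCoeff by rw [Polynomial.leadingCoeff, hQt], hc, ht, Nat.factorial_succ]
  push_cast
  ring

/-- Bezout for a hypersurface section of a projective variety. -/
theorem degree_section {I : Ideal (MvPolynomial (Fin (n + 1)) k)} (hI : I.IsHomogeneous (CohB1.polyGrading n k))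
    [I.IsPrime] {f : MvPolynomial (Fin (n + 1)) k} {d : ℕ} (hd : 0 < d) (hf : f.IsHomogeneous d) (hfI : f ∉ I)
    {P : Polynomial ℚ} (hP : ∀ᶠ j : ℕ in atTop, P.eval (j : ℚ) = hilb I j) (hdim : 1 ≤ P.natDegree) {r : ℕ}
    (p : Fin r → Ideal (MvPolynomial (Fin (n + 1)) k)) [hp : ∀ i, (p i).IsPrime] (hpinj : Function.Injective p)
    (hpmin : ∀ q : Ideal (MvPolynomial (Fin (n + 1)) k), q ∈ (I ⊔ Ideal.span {f}).minimalPrimes ↔ ∃ i, q = p i)
    (Qp : Fin r → Polynomial ℚ) (hQp : ∀ i, ∀ᶠ j : ℕ in atTop, (Qp i).eval (j : ℚ) = hilb (p i) j) :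
    (d : ℚ) * ((P.natDegree.factorial : ℚ) * P.leadingCoeff) =
      ∑ i : Fin r, ((Qp i).natDegree.factorial : ℚ) * (Qp i).leadingCoeff *
        (Module.length (Localization.AtPrime (p i))
          (LocalizedModule (p i).primeCompl (MvPolynomial (Fin (n + 1)) k ⧸ (I ⊔ Ideal.span {f})))).toNat := by
  classical
  obtain ⟨hdeg, hlc⟩ := degree_sub_taylor hdim hd
  have hI' : (I ⊔ Ideal.span {f}).IsHomogeneous (CohB1.polyGrading n k) :=
    hI.sup (Ideal.homogeneous_span _ _ (by rintro x rfl; exact ⟨d, hf⟩))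
  rw [← hlc, degree_eq_sum hI' (eventually_hilb_sup_span hI hf hfI hP) p hpinj hpmin Qp hQp]
  refine Finset.sum_congr rfl fun i _ => ?_
  rw [ite_eq_left_iff]
  intro hne
  rcases eq_or_ne (Qp i) 0 with h0 | h0
  · simp [h0]
  exfalso
  refine hne ?_
  have hmem := (hpmin (p i)).2 ⟨i, rfl⟩
  have hIle : I ≤ p i := le_sup_left.trans hmem.1.2
  obtain ⟨D, hD, -, hD1, -⟩ := ringKrullDim_eq_of_hilb hI (Ideal.IsPrime.ne_top ‹_›) hP
  obtain ⟨Di, hDi, -, hDi1, -⟩ := ringKrullDim_eq_of_hilb
    (CMGraded.isHomogeneous_of_mem_minimalPrimes (CohB1.polyGrading n k) hI' hmem) (hp i).ne_top (hQp i)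
  have hP0 : P ≠ 0 := fun h => by simp [h] at hdim
  set π := Ideal.Quotient.mk I
  set fI : MvPolynomial (Fin (n + 1)) k ⧸ I := π f with hfI'
  haveI hbar : ((p i).map π).IsPrime :=
    Ideal.map_isPrime_of_surjective Ideal.Quotient.mk_surjective (by rwa [Ideal.mk_ker])
  have hcomap : ((p i).map π).comap π = p i := by
    rw [Ideal.comap_map_of_surjective' _ Ideal.Quotient.mk_surjective, Ideal.mk_ker, sup_eq_left.2 hIle]
  have hfi : f ∈ p i := hmem.1.2 (Ideal.mem_sup_right (Ideal.mem_span_singleton_self f))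
  have hbmin : (p i).map π ∈ (Ideal.span {fI}).minimalPrimes := by
    refine ⟨⟨hbar, Ideal.span_le.2 (Set.singleton_subset_iff.2 (Ideal.mem_map_of_mem _ hfi))⟩, ?_⟩
    rintro Q ⟨hQ, hfQ⟩ hQle
    have h1 : Q.comap π ≤ p i := (Ideal.comap_mono hQle).trans hcomap.le
    have h2 : p i ≤ Q.comap π := hmem.2 ⟨Ideal.IsPrime.comap π, sup_le
      (fun a ha => by
        show π a ∈ Q
        rw [Ideal.Quotient.eq_zero_iff_mem.2 ha]
        exact Q.zero_mem)
      (Ideal.span_le.2 (Set.singleton_subset_iff.2 (hfQ (Ideal.mem_span_singleton_self fI))))⟩ h1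
    exact Ideal.map_le_iff_le_comap.2 h2
  have hne0 : (p i).map π ≠ ⊥ := fun hb => hfI (Ideal.Quotient.eq_zero_iff_mem.1
    ((Submodule.mem_bot _).1 (hb ▸ Ideal.mem_map_of_mem π hfi)))
  have hmin : ∀ Q : Ideal (MvPolynomial (Fin (n + 1)) k ⧸ I), Q.IsPrime → Q < (p i).map π → Q = ⊥ := by
    intro Q hQ hlt
    by_contra hQ0
    have h1 := Ideal.height_le_one_of_isPrincipal_of_mem_minimalPrimes (Ideal.span {fI}) _ hbmin
    have h2 := Ideal.height_strict_mono_of_isPrime (I := (⊥ : Ideal (MvPolynomial (Fin (n + 1)) k ⧸ I))) (bot_lt_iff_ne_bot.2 hQ0)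
    have h3 := Ideal.height_strict_mono_of_isPrime (I := Q) hlt
    have h4 : Q.height < 1 := h3.trans_le h1
    rw [ENat.lt_one_iff_eq_zero] at h4
    rw [h4] at h2
    exact not_lt_zero h2
  have key := AffineDim.ringKrullDim_quotient_add_one (k := k) hne0 hmin
  rw [ringKrullDim_eq_of_ringEquiv ((DoubleQuot.quotQuotEquivQuotSup I (p i)).trans
    (Ideal.quotEquivOfEq (sup_eq_right.2 hIle))), hDi, hD, hDi1 h0, hD1 hP0] at key
  have hnum : (Qp i).natDegree + 1 + 1 = P.natDegree + 1 := by exact_mod_cast key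
  omega

end Groth.Agent.HSLib
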