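import Mathlib

/-!
# Eventually polynomial functions
-/

set_option autoImplicit false

open Filter Polynomial

open scoped Topology

namespace Groth.Agent.HSLib

/-- A function agrees for large arguments with a polynomial of degree less than `k`. -/
def IsEvPoly (f : ℕ → ℤ) (k : ℕ) : Prop :=
  ∃ P : ℚ[X], P.degree < k ∧ ∀ᶠ n in atTop, (f n : ℚ) = P.eval (n : ℚ)

theorem isEvPoly_zero {f : ℕ → ℤ} (h : ∀ᶠ n in atTop, f n = 0) : IsEvPoly f 0 :=
  ⟨0, by rw [degree_zero]; exact WithBot.bot_lt_coe _, h.mono fun n hn => by simp [hn]⟩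

theorem IsEvPoly.congr {f g : ℕ → ℤ} {k : ℕ} (hf : IsEvPoly f k) (h : ∀ᶠ n in atTop, f n = g n) : IsEvPoly g k := by
  obtain ⟨P, hP, hev⟩ := hf
  exact ⟨P, hP, (hev.and h).mono fun n hn => by rw [← hn.2, hn.1]⟩

theorem IsEvPoly.sub {f g : ℕ → ℤ} {k : ℕ} (hf : IsEvPoly f k) (hg : IsEvPoly g k) :
    IsEvPoly (fun n => f n - g n) k := by
  obtain ⟨P, hP, hev⟩ := hf
  obtain ⟨Q, hQ, hev'⟩ := hg
  exact ⟨P - Q, (degree_sub_le _ _).trans_lt (max_lt hP hQ), (hev.and hev').mono fun n hn => by simp [hn.1, hn.2]⟩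

theorem IsEvPoly.shift {f : ℕ → ℤ} {k : ℕ} (hf : IsEvPoly f k) : IsEvPoly (fun n => f (n + 1)) k := by
  obtain ⟨P, hP, hev⟩ := hf
  refine ⟨taylor 1 P, by rwa [degree_taylor], ((tendsto_add_atTop_nat 1).eventually hev).mono fun n hn => ?_⟩
  rw [hn, taylor_eval]
  push_cast
  rfl

theorem exists_antidiff {k : ℕ} (D : ℚ[X]) (hD : D.degree < k) :
    ∃ Q : ℚ[X], Q.degree < (k + 1 : ℕ) ∧ ∀ x : ℚ, Q.eval (x + 1) - Q.eval x = D.eval x := by
  refine ⟨∑ j ∈ Finset.range k, (D.coeff j / (j + 1)) • Polynomial.bernoulli (j + 1), ?_, fun x => ?_⟩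
  · rw [degree_lt_iff_coeff_zero]
    intro i hi
    rw [finsetSum_coeff]
    refine Finset.sum_eq_zero fun j hj => ?_
    rw [coeff_smul, Polynomial.coeff_bernoulli]
    have := Finset.mem_range.1 hj
    simp [show ¬ i ≤ j + 1 by omega]
  · rw [eval_finsetSum, eval_finsetSum, ← Finset.sum_sub_distrib]
    rcases eq_or_ne D 0 with rfl | h0
    · simp
    have hnd : D.natDegree < k := (natDegree_lt_iff_degree_lt h0).2 hD
    rw [eval_eq_sum_range' hnd]
    refine Finset.sum_congr rfl fun j _ => ?_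
    have hk : ((j : ℚ) + 1) ≠ 0 := by positivity
    rw [eval_smul, eval_smul, add_comm x 1, Polynomial.bernoulli_eval_one_add, Nat.add_sub_cancel, smul_eq_mul,
      smul_eq_mul]
    push_cast
    field_simp
    ring

theorem IsEvPoly.of_diff {f : ℕ → ℤ} {k : ℕ} (h : IsEvPoly (fun n => f (n + 1) - f n) k) : IsEvPoly f (k + 1) := by
  obtain ⟨D, hD, hev⟩ := h
  obtain ⟨Q, hQ, hQd⟩ := exists_antidiff D hD
  obtain ⟨N, hN⟩ := eventually_atTop.1 hev
  refine ⟨Q + C ((f N : ℚ) - Q.eval (N : ℚ)), (degree_add_le _ _).trans_lt (max_lt hQ ?_), eventually_atTop.2 ⟨N, fun n hn => ?_⟩⟩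
  · exact degree_C_le.trans_lt (Nat.cast_lt.2 (Nat.succ_pos k))
  · induction n, hn using Nat.le_induction with
    | base => simp
    | succ n hn ih =>
      have h1 := hN n hn
      have h2 := hQd n
      simp only [eval_add, eval_C] at ih ⊢
      push_cast at h1 h2 ih ⊢
      linarith

theorem eventually_nat {p : ℚ → Prop} (h : ∀ᶠ x in atTop, p x) : ∀ᶠ n : ℕ in atTop, p (n : ℚ) :=
  tendsto_natCast_atTop_atTop.eventually h

theorem leadingCoeff_pos {P : ℚ[X]} (hdeg : 0 < P.natDegree) (h : ∀ᶠ n : ℕ in atTop, 0 ≤ P.eval (n : ℚ)) :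
    0 < P.leadingCoeff := by
  rcases lt_or_ge 0 P.leadingCoeff with h' | h'
  · exact h'
  · exfalso
    have ht := tendsto_atBot_of_leadingCoeff_nonpos P (natDegree_pos_iff_degree_pos.1 hdeg) h'
    obtain ⟨n, hn, hn'⟩ := (h.and (eventually_nat (ht.eventually (eventually_lt_atBot (0 : ℚ))))).exists
    exact absurd hn (not_le.2 hn')

theorem natDegree_le_of_le {P Q : ℚ[X]} (h0 : ∀ᶠ n : ℕ in atTop, 0 ≤ P.eval (n : ℚ))
    (h : ∀ᶠ n : ℕ in atTop, P.eval (n : ℚ) ≤ Q.eval (n : ℚ)) : P.natDegree ≤ Q.natDegree := by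
  by_contra hlt
  push Not at hlt
  have hpos := leadingCoeff_pos (by omega) h0
  have hd : Q.degree < P.degree := degree_lt_degree hlt
  have ht := tendsto_atTop_of_leadingCoeff_nonneg (P - Q)
    (by rw [degree_sub_eq_left_of_degree_lt hd]; exact natDegree_pos_iff_degree_pos.1 (by omega))
    (by rw [leadingCoeff_sub_of_degree_lt hd]; exact hpos.le)
  obtain ⟨n, hn, hn'⟩ := (h.and (eventually_nat (ht.eventually (eventually_gt_atTop (0 : ℚ))))).exists
  rw [eval_sub] at hn'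
  linarith

theorem natDegree_le_of_le_comp {P Q : ℚ[X]} (a b : ℕ) (ha : 0 < a) (h0 : ∀ᶠ n : ℕ in atTop, 0 ≤ P.eval (n : ℚ))
    (h : ∀ᶠ n : ℕ in atTop, P.eval (n : ℚ) ≤ Q.eval ((a * n + b : ℕ) : ℚ)) : P.natDegree ≤ Q.natDegree := by
  have hc : (Q.comp (C (a : ℚ) * X + C (b : ℚ))).natDegree = Q.natDegree := by
    rw [natDegree_comp, natDegree_linear (Nat.cast_ne_zero.2 ha.ne'), mul_one]
  rw [← hc]
  exact natDegree_le_of_le h0 (h.mono fun n hn => hn.trans_eq (by simp))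

theorem natDegree_lt_of_le_diff {P Q : ℚ[X]} (k : ℕ) (hQ : 0 < Q.natDegree) (h0 : ∀ᶠ n : ℕ in atTop, 0 ≤ P.eval (n : ℚ))
    (h : ∀ᶠ n : ℕ in atTop, P.eval (n : ℚ) ≤ Q.eval (n : ℚ) - Q.eval ((n : ℚ) - k)) : P.natDegree < Q.natDegree := by
  set D := Q - taylor (-(k : ℚ)) Q with hD
  have h1 : P.natDegree ≤ D.natDegree := natDegree_le_of_le h0 (h.mono fun n hn => hn.trans_eq (by
    rw [hD, eval_sub, taylor_eval]
    ring_nf))
  refine h1.trans_lt ?_
  rcases eq_or_ne D 0 with h2 | h2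
  · rw [h2, natDegree_zero]
    exact hQ
  · refine natDegree_lt_natDegree h2 (degree_sub_lt ?_ ?_ ?_)
    · exact (degree_taylor _ _).symm
    · exact ne_zero_of_natDegree_gt hQ
    · exact (leadingCoeff_taylor _ _).symm

theorem tendsto_eval_div_pow (P : ℚ[X]) {d : ℕ} (hd : P.natDegree ≤ d) :
    Tendsto (fun n : ℕ => ((P.eval (n : ℚ) : ℚ) : ℝ) / (n : ℝ) ^ d) atTop (𝓝 ((P.coeff d : ℚ) : ℝ)) := by
  have key : ∀ i ∈ Finset.range (d + 1), Tendsto (fun n : ℕ => ((P.coeff i : ℚ) : ℝ) * ((n : ℝ) ^ i / (n : ℝ) ^ d)) atTop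
      (𝓝 (if i = d then ((P.coeff i : ℚ) : ℝ) else 0)) := fun i hi => by
    rcases eq_or_ne i d with rfl | hne
    · rw [if_pos rfl]
      refine tendsto_nhds_of_eventually_eq ((eventually_ge_atTop 1).mono fun n hn => ?_)
      rw [div_self (pow_ne_zero _ (Nat.cast_ne_zero.2 (Nat.one_le_iff_ne_zero.1 hn))), mul_one]
    · rw [if_neg hne]
      have hid : i < d := lt_of_le_of_ne (Nat.lt_succ_iff.1 (Finset.mem_range.1 hi)) hne
      have h := ((tendsto_pow_div_pow_atTop_zero (𝕜 := ℝ) hid).comp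
        tendsto_natCast_atTop_atTop).const_mul ((P.coeff i : ℚ) : ℝ)
      simpa using h
  have h := tendsto_finsetSum _ key
  simp only [Finset.sum_ite_eq', Finset.mem_range, Nat.lt_succ_self, if_true] at h
  refine h.congr fun n => ?_
  rw [eval_eq_sum_range' (Nat.lt_succ_of_le hd), Rat.cast_sum, Finset.sum_div]
  refine Finset.sum_congr rfl fun i _ => ?_
  push_cast
  ring

end Groth.Agent.HSLib
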