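import Groth.Agent.HSLib.Poly

/-!
# Hilbert–Samuel functions
-/

set_option autoImplicit false
set_option backward.isDefEq.respectTransparency false

universe u v

open Filter Polynomial

open scoped Pointwise

namespace Groth.Agent.HSLib

variable {A : Type u} [CommRing A] {M : Type v} [AddCommGroup M] [Module A M]

/-- The colength of a submodule. -/
noncomputable def colen (X : Submodule A M) : ℕ := (Module.length A (M ⧸ X)).toNat

theorem length_quot_split {X Y : Submodule A M} (h : X ≤ Y) :
    Module.length A (M ⧸ X) = Module.length A (Y.map X.mkQ) + Module.length A (M ⧸ Y) :=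
  Module.length_eq_add_of_exact (Y.map X.mkQ).subtype (Submodule.factor h) (Submodule.injective_subtype _)
    (Submodule.factor_surjective h) (LinearMap.exact_iff.2 (by
      rw [Submodule.range_subtype, Submodule.factor, Submodule.mapQ, Submodule.ker_liftQ, LinearMap.comp_id,
        Submodule.ker_mkQ]))

theorem length_ne_top_mono {X Y : Submodule A M} (h : X ≤ Y) (hX : Module.length A (M ⧸ X) ≠ ⊤) :
    Module.length A (M ⧸ Y) ≠ ⊤ :=
  ne_top_of_le_ne_top hX (Module.length_le_of_surjective (Submodule.factor h) (Submodule.factor_surjective h))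

theorem colen_eq {X Y : Submodule A M} (h : X ≤ Y) (hX : Module.length A (M ⧸ X) ≠ ⊤) :
    colen X = (Module.length A (Y.map X.mkQ)).toNat + colen Y := by
  have h' := length_quot_split h
  rw [h'] at hX
  rw [colen, colen, h', ENat.toNat_add (fun hh => hX (by simp [hh])) (length_ne_top_mono h (h' ▸ hX))]

theorem colen_anti {X Y : Submodule A M} (h : X ≤ Y) (hX : Module.length A (M ⧸ X) ≠ ⊤) : colen Y ≤ colen X := by
  rw [colen_eq h hX]
  exact Nat.le_add_left _ _

theorem eq_of_colen_le {X Y : Submodule A M} (h : X ≤ Y) (hX : Module.length A (M ⧸ X) ≠ ⊤) (hle : colen X ≤ colen Y) :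
    Y ≤ X := by
  rw [colen_eq h hX] at hle
  have h0 : (Module.length A (Y.map X.mkQ)).toNat = 0 := by omega
  rcases ENat.toNat_eq_zero.1 h0 with h1 | h1
  · have := Module.length_eq_zero_iff.1 h1
    intro y hy
    have h2 := congrArg Subtype.val (Subsingleton.elim (⟨X.mkQ y, Submodule.mem_map_of_mem hy⟩ : Y.map X.mkQ) 0)
    exact (Submodule.Quotient.mk_eq_zero X).1 h2
  · exact absurd (length_quot_split h ▸ hX) (by simp [h1])

/-- The fundamental counting identity for multiplication by `x`. -/
theorem colen_smul_sup (x : A) (U V U' : Submodule A M) (hU' : ∀ z ∈ U, z ∈ U' ↔ x • z ∈ V) (hle : U' ≤ U)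
    (hV : Module.length A (M ⧸ V) ≠ ⊤) (hU'fin : Module.length A (M ⧸ U') ≠ ⊤) :
    colen V + colen U = colen (V ⊔ U.map (LinearMap.lsmul A M x)) + colen U' := by
  rw [colen_eq le_sup_left hV, colen_eq hle hU'fin]
  set g := V.mkQ ∘ₗ LinearMap.lsmul A M x ∘ₗ U.subtype
  set f := U'.mkQ ∘ₗ U.subtype
  have hg : LinearMap.range g = (V ⊔ U.map (LinearMap.lsmul A M x)).map V.mkQ := by
    rw [Submodule.map_sup, Submodule.mkQ_map_self, bot_sup_eq, LinearMap.range_comp, LinearMap.range_comp,
      Submodule.range_subtype]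
  have hf : LinearMap.range f = U.map U'.mkQ := by rw [LinearMap.range_comp, Submodule.range_subtype]
  have hk : LinearMap.ker g = LinearMap.ker f := by
    ext z
    simp only [g, f, LinearMap.mem_ker, LinearMap.comp_apply, Submodule.mkQ_apply, Submodule.Quotient.mk_eq_zero]
    exact (hU' z.1 z.2).symm
  have e : Module.length A (LinearMap.range g) = Module.length A (LinearMap.range f) :=
    ((g.quotKerEquivRange.symm.trans (Submodule.quotEquivOfEq _ _ hk)).trans f.quotKerEquivRange).length_eq
  rw [← hg, ← hf, e]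
  omega

/-- The Hilbert–Serre theorem, for filtrations. -/
theorem isEvPoly_colen_sub [IsNoetherianRing A] [Module.Finite A M] (I : Ideal A) :
    ∀ (s : ℕ) (x : Fin s → A), (∀ i, x i ∈ I) → ∀ (U V : I.Filtration M), U.Stable → (∀ n, V.N n ≤ U.N n) →
      (∀ n, Module.length A (M ⧸ V.N n) ≠ ⊤) →
      (∃ J : Ideal A, I ≤ Ideal.span (Set.range x) ⊔ J ∧ ∀ n, J • U.N n ≤ V.N (n + 1)) →
      IsEvPoly (fun n => (colen (V.N n) : ℤ) - colen (U.N n)) s := by
  intro s
  induction s with
  | zero =>
    rintro x - U V ⟨n₀, hU⟩ hVU hfin ⟨J, hJ, hJV⟩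
    refine isEvPoly_zero (eventually_atTop.2 ⟨n₀ + 1, fun n hn => ?_⟩)
    obtain ⟨m, rfl⟩ : ∃ m, n = m + 1 := ⟨n - 1, by omega⟩
    have : U.N (m + 1) = V.N (m + 1) := by
      refine le_antisymm ?_ (hVU _)
      rw [← hU m (by omega)]
      refine le_trans (Submodule.smul_mono_left (hJ.trans (le_of_eq ?_))) (hJV m)
      simp
    simp [this]
  | succ s ih =>
    rintro x hx U V hU hVU hfin ⟨J, hJ, hJV⟩
    set y := x (Fin.last s) with hy
    let U' : I.Filtration M :=
      { N := fun n => U.N n ⊓ (V.N (n + 1)).comap (LinearMap.lsmul A M y)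
        mono := fun n => inf_le_inf (U.mono n) (Submodule.comap_mono (V.mono _))
        smul_le := fun n => Submodule.smul_le.2 fun a ha z hz => ⟨U.smul_le n (Submodule.smul_mem_smul ha hz.1), by
          show y • a • z ∈ V.N (n + 1 + 1)
          rw [smul_comm]
          exact V.smul_le (n + 1) (Submodule.smul_mem_smul ha hz.2)⟩ }
    have hyU : ∀ n, ∀ z ∈ U.N (n - 1), y • z ∈ U.N n := fun n z hz => by
      rcases n with - | n
      · exact Submodule.smul_mem _ _ hz
      · exact U.smul_le n (Submodule.smul_mem_smul (hx _) hz)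
    let V' : I.Filtration M :=
      { N := fun n => V.N n ⊔ (U.N (n - 1)).map (LinearMap.lsmul A M y)
        mono := fun n => sup_le_sup (V.mono n) (Submodule.map_mono (U.antitone (by omega)))
        smul_le := fun n => by
          rw [Submodule.smul_sup, ← Submodule.map_smul'']
          refine sup_le_sup (V.smul_le n) (Submodule.map_mono ?_)
          rcases n with - | n
          · exact Submodule.smul_le_right
          · exact U.smul_le n }
    have hrange : Ideal.span (Set.range x) ≤ Ideal.span (Set.range fun i : Fin s => x i.castSucc) ⊔ Ideal.span {y} := by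
      rw [Ideal.span_le]
      rintro _ ⟨i, rfl⟩
      refine Fin.lastCases (Ideal.mem_sup_right (Ideal.mem_span_singleton_self y))
        (fun j => Ideal.mem_sup_left (Ideal.subset_span ⟨j, rfl⟩)) i
    have hI' : I ≤ Ideal.span (Set.range fun i : Fin s => x i.castSucc) ⊔ (Ideal.span {y} ⊔ J) :=
      hJ.trans ((sup_le_sup_right hrange J).trans (le_of_eq (sup_assoc _ _ _)))
    have hcastSucc : ∀ i : Fin s, x i.castSucc ∈ I := fun i => hx _
    have h1 := ih (fun i => x i.castSucc) hcastSucc U' V
      (hU.of_le fun n => inf_le_left)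
      (fun n => le_inf (hVU n) fun z hz => V.smul_le n (Submodule.smul_mem_smul (hx _) hz)) hfin
      ⟨Ideal.span {y} ⊔ J, hI', fun n => by
        rw [Submodule.sup_smul]
        refine sup_le ?_ ((Submodule.smul_mono le_rfl inf_le_left).trans (hJV n))
        rw [Submodule.smul_le]
        intro a ha z hz
        obtain ⟨c, rfl⟩ := Ideal.mem_span_singleton'.1 ha
        rw [mul_smul]
        exact Submodule.smul_mem _ _ hz.2⟩
    have h2 := ih (fun i => x i.castSucc) hcastSucc U V' hU
      (fun n => sup_le (hVU n) (by rintro _ ⟨z, hz, rfl⟩; exact hyU n z hz))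
      (fun n => length_ne_top_mono le_sup_left (hfin n))
      ⟨Ideal.span {y} ⊔ J, hI', fun n => by
        rw [Submodule.sup_smul]
        refine sup_le (le_trans ?_ le_sup_right) ((hJV n).trans le_sup_left)
        rw [Submodule.smul_le]
        intro a ha z hz
        obtain ⟨c, rfl⟩ := Ideal.mem_span_singleton'.1 ha
        exact ⟨c • z, Submodule.smul_mem _ _ hz, by simp [smul_smul, mul_comm]⟩⟩
    refine IsEvPoly.of_diff ((h2.shift.sub h1).congr (Eventually.of_forall fun n => ?_))
    have hU'fin : Module.length A (M ⧸ U'.N n) ≠ ⊤ :=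
      length_ne_top_mono (le_inf (hVU n) fun z hz => V.smul_le n (Submodule.smul_mem_smul (hx _) hz)) (hfin n)
    have key := colen_smul_sup y (U.N n) (V.N (n + 1)) (U'.N n) (fun z hz => ⟨fun h => h.2, fun h => ⟨hz, h⟩⟩) inf_le_left
      (hfin (n + 1)) hU'fin
    show ((colen (V'.N (n + 1)) : ℤ) - colen (U.N (n + 1))) - ((colen (V.N n) : ℤ) - colen (U'.N n)) = _
    have hV' : colen (V'.N (n + 1)) = colen (V.N (n + 1) ⊔ (U.N n).map (LinearMap.lsmul A M y)) := rfl
    omega

/-- `P` is the Hilbert–Samuel polynomial of `M` with respect to `I`. -/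
def IsHSPoly (I : Ideal A) (M : Type v) [AddCommGroup M] [Module A M] (P : ℚ[X]) : Prop :=
  ∀ᶠ n : ℕ in atTop, (colen (I ^ n • (⊤ : Submodule A M)) : ℚ) = P.eval (n : ℚ)

theorem IsHSPoly.nonneg {I : Ideal A} {P : ℚ[X]} (h : IsHSPoly I M P) : ∀ᶠ n : ℕ in atTop, 0 ≤ P.eval (n : ℚ) :=
  h.mono fun n hn => hn ▸ Nat.cast_nonneg _

theorem pow_smul_top_anti (I : Ideal A) {m n : ℕ} (h : m ≤ n) :
    I ^ n • (⊤ : Submodule A M) ≤ I ^ m • (⊤ : Submodule A M) :=
  Submodule.smul_mono_left (Ideal.pow_le_pow_right h)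

theorem exists_isHSPoly_span [IsNoetherianRing A] [Module.Finite A M] {s : ℕ} (x : Fin s → A)
    (hfin : ∀ n : ℕ, Module.length A (M ⧸ (Ideal.span (Set.range x) ^ n • (⊤ : Submodule A M))) ≠ ⊤) :
    ∃ P : ℚ[X], P.natDegree ≤ s ∧ IsHSPoly (Ideal.span (Set.range x)) M P := by
  set I := Ideal.span (Set.range x)
  let U := I.stableFiltration (⊤ : Submodule A M)
  let V : I.Filtration M :=
    { N := fun n => U.N (n + 1)
      mono := fun n => U.mono _
      smul_le := fun n => U.smul_le _ }
  have h := isEvPoly_colen_sub I s x (fun i => Ideal.subset_span ⟨i, rfl⟩) U V (I.stableFiltration_stable ⊤)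
    (fun n => U.mono n) (fun n => hfin (n + 1))
    ⟨⊥, le_sup_left, fun n => by simp⟩
  obtain ⟨P, hP, hev⟩ := IsEvPoly.of_diff (f := fun n => (colen (U.N n) : ℤ)) h
  refine ⟨P, ?_, hev.mono fun n hn => by simpa [U] using hn⟩
  rcases eq_or_ne P 0 with rfl | h0
  · simp
  · exact Nat.lt_succ_iff.1 ((natDegree_lt_iff_degree_lt h0).2 hP)

theorem exists_isHSPoly [IsNoetherianRing A] [Module.Finite A M] (I : Ideal A)
    (hfin : ∀ n : ℕ, Module.length A (M ⧸ (I ^ n • (⊤ : Submodule A M))) ≠ ⊤) : ∃ P : ℚ[X], IsHSPoly I M P := by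
  obtain ⟨s, x, hx⟩ := Submodule.fg_iff_exists_fin_generating_family.1 (IsNoetherian.noetherian I)
  change Ideal.span (Set.range x) = I at hx
  subst hx
  obtain ⟨P, -, hP⟩ := exists_isHSPoly_span x hfin
  exact ⟨P, hP⟩

end Groth.Agent.HSLib
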