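import Groth.Agent.HSLib.Dim

/-!
# Hilbert functions of graded modules over polynomial rings
-/

set_option autoImplicit false
set_option backward.isDefEq.respectTransparency false

universe u

open Filter MvPolynomial

namespace Groth.Agent.HSLib

theorem exists_binomial_form : ∀ (d : ℕ) (f : ℕ → ℤ), IsEvPoly f d →
    ∃ c : Fin d → ℤ, ∀ᶠ i in atTop, f i = ∑ k : Fin d, c k * ((i + (k : ℕ)).choose (k : ℕ) : ℤ) := by
  intro d
  induction d with
  | zero =>
    rintro f ⟨P, hP, hev⟩
    refine ⟨Fin.elim0, hev.mono fun i hi => ?_⟩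
    have hP0 : P = 0 := Polynomial.degree_eq_bot.1 (Nat.WithBot.lt_zero_iff.1 hP)
    rw [hP0, Polynomial.eval_zero, Int.cast_eq_zero] at hi
    simp [hi]
  | succ d ih =>
    rintro f ⟨P, hP, hev⟩
    have hdiff : IsEvPoly (fun i => f i - f (i - 1)) d := by
      refine ⟨P - Polynomial.taylor (-1) P, ?_, ?_⟩
      · rcases eq_or_ne P.natDegree 0 with h0 | h0
        · rw [Polynomial.eq_C_of_natDegree_eq_zero h0, Polynomial.taylor_C, sub_self, Polynomial.degree_zero]
          exact WithBot.bot_lt_coe _
        · have hP0 : P ≠ 0 := fun h => h0 (by simp [h])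
          refine lt_of_lt_of_le (Polynomial.degree_sub_lt (Polynomial.degree_taylor _ _).symm hP0
            (Polynomial.leadingCoeff_taylor _ _).symm) ?_
          rw [Polynomial.degree_eq_natDegree hP0] at hP ⊢
          have := Nat.cast_lt.1 hP
          exact Nat.cast_le.2 (by omega)
      · filter_upwards [hev, (tendsto_sub_atTop_nat 1).eventually hev, eventually_ge_atTop 1] with i h1 h2 h3
        push_cast
        rw [h1, h2, Polynomial.eval_sub, Polynomial.taylor_eval, Nat.cast_sub h3]
        push_cast
        ring_nf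
    obtain ⟨c, hc⟩ := ih _ hdiff
    obtain ⟨N, hN⟩ := eventually_atTop.1 hc
    refine ⟨Fin.cons (f N - ∑ k : Fin d, c k * ((N + ((k : ℕ) + 1)).choose ((k : ℕ) + 1) : ℤ)) c,
      eventually_atTop.2 ⟨N, fun i hi => ?_⟩⟩
    rw [Fin.sum_univ_succ]
    simp only [Fin.cons_zero, Fin.cons_succ, Fin.val_zero, Fin.val_succ, Nat.choose_zero_right, Nat.cast_one, mul_one]
    induction i, hi using Nat.le_induction with
    | base => ring
    | succ i hi ihi =>
      have h1 := hN (i + 1) (by omega)
      simp only [Nat.add_sub_cancel] at h1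
      have hpas : ∀ k : Fin d, c k * ((i + 1 + ((k : ℕ) + 1)).choose ((k : ℕ) + 1) : ℤ) =
          c k * ((i + 1 + (k : ℕ)).choose (k : ℕ) : ℤ) + c k * ((i + ((k : ℕ) + 1)).choose ((k : ℕ) + 1) : ℤ) := fun k => by
        rw [show i + 1 + ((k : ℕ) + 1) = (i + 1 + k) + 1 by omega, Nat.choose_succ_succ,
          show i + ((k : ℕ) + 1) = i + 1 + k by omega]
        push_cast
        ring
      rw [Finset.sum_congr rfl fun k _ => hpas k, Finset.sum_add_distrib]
      linarith

theorem length_eq_of_var_smul {A₀ : Type u} [CommRing A₀] {σ : Type*} (N : Type u) [AddCommGroup N] [Module A₀ N]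
    [Module (MvPolynomial σ A₀) N] [IsScalarTower A₀ (MvPolynomial σ A₀) N]
    (h : ∀ (i : σ) (x : N), (X i : MvPolynomial σ A₀) • x = 0) :
    Module.length (MvPolynomial σ A₀) N = Module.length A₀ N := by
  letI : Algebra (MvPolynomial σ A₀) A₀ := (constantCoeff : MvPolynomial σ A₀ →+* A₀).toAlgebra
  have hp : ∀ (p : MvPolynomial σ A₀) (x : N), p • x = constantCoeff p • x := fun p x => by
    induction p using MvPolynomial.induction_on with
    | C r => rw [constantCoeff_C, ← algebraMap_eq, algebraMap_smul]
    | add p q hp hq => rw [add_smul, hp, hq, map_add, add_smul]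
    | mul_X p i _ => rw [mul_smul, h, smul_zero, map_mul, constantCoeff_X, mul_zero, zero_smul]
  haveI : IsScalarTower (MvPolynomial σ A₀) A₀ N := ⟨fun p a x => by
    rw [Algebra.smul_def, hp p (a • x), mul_smul]
    rfl⟩
  exact Module.length_eq_of_surjective fun a => ⟨C a, constantCoeff_C _ a⟩

variable {A₀ : Type u} [CommRing A₀] [IsArtinianRing A₀] {d : ℕ} {M : Type u} [AddCommGroup M]
  [Module (MvPolynomial (Fin d) A₀) M] [Module A₀ M] [IsScalarTower A₀ (MvPolynomial (Fin d) A₀) M]
  [Module.Finite (MvPolynomial (Fin d) A₀) M] (ℳ : ℕ → Submodule A₀ M) [DirectSum.Decomposition ℳ]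
  [SetLike.GradedSMul (MvPolynomial.homogeneousSubmodule (Fin d) A₀) ℳ]

omit [IsArtinianRing A₀] [Module.Finite (MvPolynomial (Fin d) A₀) M] in
theorem hom_smul_mem {s : MvPolynomial (Fin d) A₀} {i j : ℕ} (hs : s ∈ homogeneousSubmodule (Fin d) A₀ i)
    {x : M} (hx : x ∈ ℳ j) : s • x ∈ ℳ (i + j) :=
  SetLike.GradedSMul.smul_mem hs hx

theorem isEvPoly_length :
    ∃ f : ℕ → ℕ, (∀ i, Module.length A₀ (ℳ i) = f i) ∧ IsEvPoly (fun i => (f i : ℤ)) d := by
  classical
  let S := MvPolynomial (Fin d) A₀
  haveI : IsNoetherianRing S := inferInstance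
  let I : Ideal S := MvPolynomial.idealOfVars (Fin d) A₀
  have hWsmul : ∀ (n : ℕ) (s : S) (x : M), x ∈ (⨆ i ≥ n, ℳ i) → s • x ∈ ⨆ i ≥ n, ℳ i := fun n s x hx => by
    induction hx using Submodule.iSup_induction' with
    | mem i x hx =>
      by_cases hi : i ≥ n
      · rw [iSup_pos hi] at hx
        rw [← MvPolynomial.sum_homogeneousComponent s, Finset.sum_smul]
        exact Submodule.sum_mem _ fun j _ => Submodule.mem_iSup_of_mem (j + i)
          (Submodule.mem_iSup_of_mem (by omega) (hom_smul_mem ℳ (homogeneousComponent_mem _ _) hx))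
      · rw [iSup_neg hi, Submodule.mem_bot] at hx
        simp [hx]
    | zero => simp
    | add x y _ _ hx hy => rw [smul_add]; exact Submodule.add_mem _ hx hy
  let Usub : ℕ → Submodule S M := fun n =>
    { carrier := (⨆ i ≥ n, ℳ i : Submodule A₀ M)
      add_mem' := fun hx hy => Submodule.add_mem _ hx hy
      zero_mem' := Submodule.zero_mem _
      smul_mem' := fun s x hx => hWsmul n s x hx }
  have hmemU : ∀ n x, x ∈ Usub n ↔ x ∈ (⨆ i ≥ n, ℳ i : Submodule A₀ M) := fun n x => Iff.rfl
  have hX : ∀ (j : Fin d) (n : ℕ) (x : M), x ∈ Usub n → (X j : S) • x ∈ Usub (n + 1) := fun j n x hx => by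
    rw [hmemU] at hx ⊢
    induction hx using Submodule.iSup_induction' with
    | mem i x hx =>
      by_cases hi : i ≥ n
      · rw [iSup_pos hi] at hx
        exact Submodule.mem_iSup_of_mem (1 + i)
          (Submodule.mem_iSup_of_mem (by omega) (hom_smul_mem ℳ (isHomogeneous_X A₀ j) hx))
      · rw [iSup_neg hi, Submodule.mem_bot] at hx
        simp [hx]
    | zero => simp
    | add x y _ _ hx hy => rw [smul_add]; exact Submodule.add_mem _ hx hy
  let U : I.Filtration M :=
    { N := Usub
      mono := fun n x hx => by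
        rw [hmemU] at hx ⊢
        refine (iSup₂_le fun i hi => ?_ : (⨆ i ≥ n + 1, ℳ i) ≤ ⨆ i ≥ n, ℳ i) hx
        exact le_iSup₂ (f := fun i (_ : i ≥ n) => ℳ i) i (by omega)
      smul_le := fun n => Submodule.smul_le.2 fun a ha x hx => by
        induction ha using Submodule.span_induction generalizing x with
        | mem a ha => obtain ⟨j, rfl⟩ := ha; exact hX j n x hx
        | zero => simp
        | add a b _ _ iha ihb => rw [add_smul]; exact Submodule.add_mem _ (iha x hx) (ihb x hx)
        | smul c a _ iha => rw [smul_assoc]; exact Submodule.smul_mem _ _ (iha x hx) }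
  have htop : U.N 0 = ⊤ := eq_top_iff.2 fun x _ => by
    show x ∈ Usub 0
    rw [hmemU]
    have hD := (DirectSum.Decomposition.isInternal ℳ).submodule_iSup_eq_top
    have : x ∈ ⨆ i, ℳ i := hD ▸ Submodule.mem_top
    simpa using this
  -- homogeneous generators
  obtain ⟨gen, hgen⟩ := Module.Finite.fg_top (R := S) (M := M)
  let hgs : Finset (ℕ × M) := gen.biUnion fun g =>
    (DirectSum.decompose ℳ g).support.image fun i => (i, ((DirectSum.decompose ℳ g i : ℳ i) : M))
  have hgs_deg : ∀ q ∈ hgs, q.2 ∈ ℳ q.1 := fun q hq => by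
    obtain ⟨g, -, hq⟩ := Finset.mem_biUnion.1 hq
    obtain ⟨i, -, rfl⟩ := Finset.mem_image.1 hq
    exact (DirectSum.decompose ℳ g i).2
  have hspan : Submodule.span S (hgs.image Prod.snd : Set M) = ⊤ := by
    rw [eq_top_iff, ← hgen, Submodule.span_le]
    intro g hg
    rw [← DirectSum.sum_support_decompose ℳ g]
    exact Submodule.sum_mem _ fun i hi => Submodule.subset_span (Finset.mem_coe.2 (Finset.mem_image.2
      ⟨(i, _), Finset.mem_biUnion.2 ⟨g, hg, Finset.mem_image.2 ⟨i, hi, rfl⟩⟩, rfl⟩))
  set c := hgs.sup Prod.fst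
  have hbound : ∀ n, U.N n ≤ I ^ (n - c) • (⊤ : Submodule S M) := fun n x hx => by
    have key : ∀ i, n ≤ i → ∀ y : M, ((DirectSum.decompose ℳ y i : ℳ i) : M) ∈ I ^ (n - c) • (⊤ : Submodule S M) := by
      intro i hi y
      have hy : y ∈ Submodule.span S (hgs.image Prod.snd : Set M) := hspan ▸ Submodule.mem_top
      induction hy using Submodule.span_induction with
      | zero => simp
      | add a b _ _ ha hb =>
        rw [DirectSum.decompose_add, DirectSum.add_apply, Submodule.coe_add]
        exact Submodule.add_mem _ ha hb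
      | smul s a _ ha =>
        -- reduce to homogeneous elements
        have main : ∀ (k : ℕ) (s : S), s ∈ homogeneousSubmodule (Fin d) A₀ k → ∀ (z : M),
            z ∈ Submodule.span S (hgs.image Prod.snd : Set M) →
            ((DirectSum.decompose ℳ (s • z) i : ℳ i) : M) ∈ I ^ (n - c) • (⊤ : Submodule S M) := by
          intro k s hs z hz
          clear ha
          induction hz using Submodule.span_induction generalizing k s with
          | zero => simp
          | add a b _ _ ha hb =>
            rw [smul_add, DirectSum.decompose_add, DirectSum.add_apply, Submodule.coe_add]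
            exact Submodule.add_mem _ (ha k s hs) (hb k s hs)
          | smul t a _ ha =>
            rw [smul_smul, mul_comm, ← MvPolynomial.sum_homogeneousComponent t, Finset.sum_mul, Finset.sum_smul,
              DirectSum.decompose_sum, DFinsupp.finsetSum_apply, Submodule.coe_sum]
            refine Submodule.sum_mem _ fun l _ => ha (l + k) _ ?_
            exact (homogeneousComponent_isHomogeneous l t).mul hs
          | mem g hg =>
            obtain ⟨q, hq, rfl⟩ := Finset.mem_image.1 (Finset.mem_coe.1 hg)
            by_cases hki : k + q.1 = i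
            · subst hki
              rw [DirectSum.decompose_of_mem_same ℳ (hom_smul_mem ℳ hs (hgs_deg q hq))]
              refine Submodule.smul_mem_smul ?_ Submodule.mem_top
              have hkc : n - c ≤ k := by
                have : q.1 ≤ c := Finset.le_sup (f := Prod.fst) hq
                omega
              refine Ideal.pow_le_pow_right hkc ((mem_pow_idealOfVars_iff' k s).2 fun e he => ?_)
              by_contra hne
              have := hs hne
              rw [Pi.one_def, ← Finsupp.degree_eq_weight_one] at this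
              omega
            · rw [DirectSum.decompose_of_mem_ne ℳ (hom_smul_mem ℳ hs (hgs_deg q hq)) hki]
              exact Submodule.zero_mem _
        rw [← MvPolynomial.sum_homogeneousComponent s, Finset.sum_smul, DirectSum.decompose_sum,
          DFinsupp.finsetSum_apply, Submodule.coe_sum]
        exact Submodule.sum_mem _ fun l _ => main l _ (homogeneousComponent_mem _ _) a (hspan ▸ Submodule.mem_top)
      | mem g hg =>
        obtain ⟨q, hq, rfl⟩ := Finset.mem_image.1 (Finset.mem_coe.1 hg)
        by_cases hqi : q.1 = i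
        · subst hqi
          rw [DirectSum.decompose_of_mem_same ℳ (hgs_deg q hq)]
          have : q.1 ≤ c := Finset.le_sup (f := Prod.fst) hq
          rw [show n - c = 0 by omega, pow_zero, Submodule.one_smul]
          exact Submodule.mem_top
        · rw [DirectSum.decompose_of_mem_ne ℳ (hgs_deg q hq) hqi]
          exact Submodule.zero_mem _
    change x ∈ (⨆ i ≥ n, ℳ i : Submodule A₀ M) at hx
    induction hx using Submodule.iSup_induction' with
    | mem i x hx =>
      by_cases hi : i ≥ n
      · rw [iSup_pos hi] at hx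
        have := key i hi x
        rwa [DirectSum.decompose_of_mem_same ℳ hx] at this
      · rw [iSup_neg hi, Submodule.mem_bot] at hx
        simp [hx]
    | zero => simp
    | add x y _ _ hx hy => exact Submodule.add_mem _ hx hy
  let F : I.Filtration M :=
    { N := fun n => I ^ (n - c) • ⊤
      mono := fun n => Submodule.smul_mono_left (Ideal.pow_le_pow_right (by omega))
      smul_le := fun n => by
        rw [← Submodule.mul_smul, ← pow_succ']
        exact Submodule.smul_mono_left (Ideal.pow_le_pow_right (by omega)) }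
  have hF : F.Stable := ⟨c, fun n hn => by
    show I • I ^ (n - c) • ⊤ = I ^ (n + 1 - c) • ⊤
    rw [← Submodule.mul_smul, ← pow_succ', show n + 1 - c = n - c + 1 by omega]⟩
  have hU : U.Stable := hF.of_le hbound
  let V : I.Filtration M :=
    { N := fun n => U.N (n + 1)
      mono := fun n => U.mono _
      smul_le := fun n => U.smul_le _ }
  have hflI : ∀ p ∈ Module.support S M, I ≤ p.asIdeal → p.asIdeal.IsMaximal := fun p _ hp => by
    have hker : RingHom.ker (constantCoeff : S →+* A₀) ≤ p.asIdeal := fun f hf => hp (by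
      have : f ∈ MvPolynomial.idealOfVars (Fin d) A₀ ^ 1 := (mem_pow_idealOfVars_iff' 1 f).2 fun e he => by
        rw [Nat.lt_one_iff, Finsupp.degree_eq_zero_iff] at he
        subst he
        exact hf
      rwa [pow_one] at this)
    have hs : Function.Surjective (constantCoeff : S →+* A₀) := fun a => ⟨C a, constantCoeff_C _ a⟩
    haveI : (p.asIdeal.map (constantCoeff : S →+* A₀)).IsPrime := Ideal.map_isPrime_of_surjective hs hker
    have h2 := Ideal.comap_isMaximal_of_surjective (constantCoeff : S →+* A₀) hs (K := p.asIdeal.map (constantCoeff : S →+* A₀))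
    rwa [Ideal.comap_map_of_surjective' _ hs, sup_eq_left.2 hker] at h2
  have hpow : ∀ n, I ^ n • (⊤ : Submodule S M) ≤ U.N n := fun n => by
    rw [← htop]
    exact U.pow_smul_le n 0
  have hfinU : ∀ n, Module.length S (M ⧸ U.N n) ≠ ⊤ := fun n => length_ne_top_mono (hpow n) (length_pow_ne_top hflI n)
  have hlen : ∀ n, Module.length S ((U.N n).map (U.N (n + 1)).mkQ) = Module.length A₀ (ℳ n) := fun n => by
    let φ : ℳ n →ₗ[A₀] (U.N n).map (U.N (n + 1)).mkQ :=
      { toFun := fun x => ⟨Submodule.Quotient.mk x.1, x.1,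
          (Submodule.mem_iSup_of_mem n (Submodule.mem_iSup_of_mem le_rfl x.2) : x.1 ∈ ⨆ i ≥ n, ℳ i), rfl⟩
        map_add' := fun x y => rfl
        map_smul' := fun a x => rfl }
    have hinj : Function.Injective φ := by
      refine (injective_iff_map_eq_zero φ).2 fun x hx => Subtype.ext ?_
      have hx' : (x : M) ∈ U.N (n + 1) := (Submodule.Quotient.mk_eq_zero _).1 (congrArg Subtype.val hx)
      have hproj : ∀ y ∈ (⨆ i ≥ n + 1, ℳ i : Submodule A₀ M), ((DirectSum.decompose ℳ y n : ℳ n) : M) = 0 := fun y hy => by
        induction hy using Submodule.iSup_induction' with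
        | mem i y hy =>
          by_cases hi : i ≥ n + 1
          · rw [iSup_pos hi] at hy
            rw [DirectSum.decompose_of_mem_ne ℳ hy (by omega)]
          · rw [iSup_neg hi, Submodule.mem_bot] at hy
            simp [hy]
        | zero => simp
        | add a b _ _ ha hb => rw [DirectSum.decompose_add, DirectSum.add_apply, Submodule.coe_add, ha, hb, add_zero]
      have := hproj x hx'
      rwa [DirectSum.decompose_of_mem_same ℳ x.2] at this
    have hsurj : Function.Surjective φ := by
      rintro ⟨_, z, hz, rfl⟩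
      suffices ∀ z ∈ (⨆ i ≥ n, ℳ i : Submodule A₀ M), ∃ x : ℳ n, z - x.1 ∈ U.N (n + 1) by
        obtain ⟨x, hx⟩ := this z hz
        exact ⟨x, Subtype.ext ((Submodule.Quotient.eq _).2 (by simpa using (U.N (n + 1)).neg_mem hx))⟩
      intro z hz
      induction hz using Submodule.iSup_induction' with
      | mem i y hy =>
        by_cases hi : i ≥ n
        · rw [iSup_pos hi] at hy
          rcases hi.eq_or_lt with rfl | hlt
          · exact ⟨⟨y, hy⟩, by simp⟩
          · exact ⟨0, by
              rw [Submodule.coe_zero, sub_zero]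
              exact (Submodule.mem_iSup_of_mem i (Submodule.mem_iSup_of_mem hlt hy) : y ∈ ⨆ i ≥ n + 1, ℳ i)⟩
        · rw [iSup_neg hi, Submodule.mem_bot] at hy
          exact ⟨0, by simp [hy]⟩
      | zero => exact ⟨0, by simp⟩
      | add a b _ _ ha hb =>
        obtain ⟨x, hx⟩ := ha
        obtain ⟨y, hy⟩ := hb
        exact ⟨x + y, by rw [Submodule.coe_add, add_sub_add_comm]; exact Submodule.add_mem _ hx hy⟩
    rw [length_eq_of_var_smul _ (fun j x => ?_), ← (LinearEquiv.ofBijective φ ⟨hinj, hsurj⟩).length_eq]
    obtain ⟨_, z, hz, rfl⟩ := x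
    exact Subtype.ext ((Submodule.Quotient.mk_eq_zero _).2 (hX j n z hz))
  refine ⟨fun n => (Module.length A₀ (ℳ n)).toNat, fun n => (ENat.coe_toNat ?_).symm,
    (isEvPoly_colen_sub I d (fun j => (X j : S)) (fun j => Ideal.subset_span ⟨j, rfl⟩) U V hU (fun n => U.mono n)
      (fun n => hfinU (n + 1)) ⟨⊥, le_sup_left, fun n => by simp⟩).congr (Eventually.of_forall fun n => ?_)⟩
  · intro htp
    have h := length_quot_split (U.mono n)
    rw [hlen, htp, top_add] at h
    exact hfinU (n + 1) h
  · show (colen (U.N (n + 1)) : ℤ) - colen (U.N n) = _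
    rw [colen_eq (U.mono n) (hfinU (n + 1)), hlen]
    push_cast
    ring

end Groth.Agent.HSLib
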